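import Cfsg.Agent.Lib.ThreeTransp.U6Stab
import Cfsg.Agent.Lib.ThreeTransp.U6Lines

/-!
# The stabiliser of two non-orthogonal points of `PSU₆(2)`

It is generated by the points orthogonal to both, and only the identity fixes all of these as well.
-/

set_option autoImplicit false

namespace CfsgLib.U6

open Matrix Cfsg
open CfsgLib.PSUAut
open CfsgLib.UnitarySpec (sigma_sigma sigma_ne psuMk)

variable {F : Type} [Field F] [Fintype F]

local notation "V6" => Fin 6 → F
local notation "H6" => Cfsg.hermForm 6 F 2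
local notation "SU6" => (Cfsg.SU 6 F 2)
local notation "PSU6" => (Cfsg.PSU 6 F 2)

variable (hF : Fintype.card F = 2 ^ 2)
include hF

/-- An element fixing two non-orthogonal isotropic points acts as an element of `SU₄` on their orthogonal. -/
theorem pair_split {u v : V6} (hu : Isot 2 u) (hv : Isot 2 v) (huv : H6 v u ≠ 0) {g : SU6} {lam mu : F}
    (hgu : act g u = lam • u) (hgv : act g v = mu • v) :
    ∃ (g' : SU6) (B : Cfsg.SU 4 F 2) (T : ((Fin 2 → F) × (Fin 4 → F)) ≃ₗ[F] V6),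
      psuMk g' = psuMk g ∧
      (∀ p q : (Fin 2 → F) × (Fin 4 → F), H6 (T p) (T q) =
        Cfsg.hermForm 2 F 2 p.1 q.1 + Cfsg.hermForm 4 F 2 p.2 q.2) ∧
      (∀ p r, act g' (T (p, r)) = T (p, act B r)) ∧
      ∀ r, H6 (T (0, r)) u = 0 ∧ H6 (T (0, r)) v = 0 := by
  obtain ⟨σ, hσ⟩ := exists_sigma hF
  obtain ⟨g₂, hgg, fu⟩ := exists_fix_adjust hF hu.1 hgu
  set y₀ := (H6 v u)⁻¹ • v with hy0def
  have hy₀u : H6 y₀ u = 1 := by rw [hy0def, smul_left hF, inv_mul_cancel₀ huv]
  have hy₀ : Isot 2 y₀ :=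
    ⟨smul_ne_zero (inv_ne_zero huv) hv.1, by rw [hy0def, smul_left hF, smul_right hF, hv.2]; simp⟩
  have fy : act g₂ y₀ = y₀ := by
    obtain ⟨X, hX⟩ := exists_pt hF hy₀
    have h1 := hX.conj hF g
    have h2 := hX.conj hF g₂
    rw [hgg] at h2
    obtain ⟨c, -, hc⟩ := IsPt.span_eq hF h1 h2
    have hg₀ : act g y₀ = mu • y₀ := by rw [hy0def, act_smul, hgv, smul_comm]
    rw [hg₀, smul_smul] at hc
    have h3 : H6 (act g₂ y₀) (act g₂ u) = H6 y₀ u := act_form _ _ _
    rw [hc, fu, smul_left hF, hy₀u, mul_one] at h3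
    rw [hc, h3, one_smul]
  set W : Submodule F (Fin (2 + 4) → F) := Submodule.span F {u, y₀} with hW
  have huy : H6 u y₀ = 1 := comm_one hF hy₀u
  have hWk : Module.finrank F W = 2 := by
    have hli : LinearIndependent F ![u, y₀] := by
      rw [LinearIndependent.pair_iff' hu.1]
      intro a ha
      rw [← ha, smul_left hF, hu.2, mul_zero] at hy₀u
      exact zero_ne_one hy₀u
    have := finrank_span_eq_card hli
    rwa [Matrix.range_cons, Matrix.range_cons, Matrix.range_empty, Set.union_empty, Set.singleton_union,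
      Fintype.card_fin] at this
  have hWnd : ∀ z ∈ W, (∀ w ∈ W, Cfsg.hermForm (2 + 4) F 2 z w = 0) → z = 0 := by
    intro z hz hz'
    obtain ⟨a, b, rfl⟩ := Submodule.mem_span_pair.1 hz
    have e1 := hz' u (Submodule.subset_span (Set.mem_insert _ _))
    have e2 := hz' y₀ (Submodule.subset_span (Set.mem_insert_of_mem _ rfl))
    change H6 (a • u + b • y₀) u = 0 at e1
    change H6 (a • u + b • y₀) y₀ = 0 at e2
    rw [add_left hF, smul_left hF, smul_left hF, hu.2, hy₀u, mul_zero, zero_add, mul_one] at e1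
    rw [add_left hF, smul_left hF, smul_left hF, hy₀.2, huy, mul_zero, add_zero, mul_one] at e2
    rw [e1, e2, zero_smul, zero_smul, add_zero]
  obtain ⟨T, hT, hTW⟩ := CfsgLib.Classical.exists_split (k := 2) (m := 4) hF W hWk hWnd
  have hfixW : ∀ z ∈ W, act g₂ z = z := by
    intro z hz
    obtain ⟨a, b, rfl⟩ := Submodule.mem_span_pair.1 hz
    rw [act_add, act_smul, act_smul, fu, fy]
  have hp : ∀ p, act g₂ (T (p, 0)) = T (p, 0) := fun p => hfixW _ ((hTW _).2 rfl)
  let g₂l : V6 →ₗ[F] V6 := Matrix.toLin' ((g₂.1 : Matrix.SpecialLinearGroup (Fin 6) F) : Matrix (Fin 6) (Fin 6) F)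
  have hg₂l : ∀ y, g₂l y = act g₂ y := fun y => Matrix.toLin'_apply _ _
  let L : ((Fin 2 → F) × (Fin 4 → F)) →ₗ[F] ((Fin 2 → F) × (Fin 4 → F)) :=
    T.symm.toLinearMap ∘ₗ g₂l ∘ₗ T.toLinearMap
  have hL : ∀ x, T (L x) = act g₂ (T x) := fun x => by
    rw [show L x = T.symm (g₂l (T x)) from rfl, T.apply_symm_apply, hg₂l]
  let A : (Fin 4 → F) →ₗ[F] (Fin 4 → F) := LinearMap.snd F _ _ ∘ₗ L ∘ₗ LinearMap.inr F _ _
  have hfst : ∀ r, (L (0, r)).1 = 0 := by
    intro r
    refine eq_zero_of_perp (n := 2) hF hσ fun p => ?_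
    have h1 : H6 (act g₂ (T (p, 0))) (act g₂ (T (0, r))) = H6 (T (p, 0)) (T (0, r)) := act_form _ _ _
    rw [hp, ← hL] at h1
    rw [show H6 (T (p, 0)) (T (L (0, r))) = _ from hT (p, 0) (L (0, r)),
      show H6 (T (p, 0)) (T (0, r)) = _ from hT (p, 0) (0, r)] at h1
    simpa [hzero_left hF hσ, hzero_right hF hσ] using h1
  have hL2 : L = LinearMap.prodMap LinearMap.id A := by
    refine LinearMap.ext fun x => ?_
    obtain ⟨p, r⟩ := x
    have h1 : L (p, 0) = (p, 0) := T.injective (by rw [hL, hp])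
    rw [show ((p, r) : (Fin 2 → F) × (Fin 4 → F)) = (p, 0) + (0, r) by simp, map_add, h1]
    refine Prod.ext ?_ ?_
    · simp [hfst]
    · simp [A]
  have hdetA : LinearMap.det A = 1 := by
    have h1 : LinearMap.det L = 1 := by
      rw [show L = (T.symm : V6 →ₗ[F] _) ∘ₗ g₂l ∘ₗ (T.symm.symm : _ →ₗ[F] V6) from rfl, LinearMap.det_conj,
        LinearMap.det_toLin']
      exact g₂.1.2
    rwa [hL2, LinearMap.det_prodMap, LinearMap.det_id, one_mul] at h1
  have hformA : ∀ r s, Cfsg.hermForm 4 F 2 (A r) (A s) = Cfsg.hermForm 4 F 2 r s := by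
    intro r s
    have h1 : H6 (act g₂ (T (0, r))) (act g₂ (T (0, s))) = H6 (T (0, r)) (T (0, s)) := act_form _ _ _
    rw [← hL, ← hL] at h1
    rw [show H6 (T (L (0, r))) (T (L (0, s))) = _ from hT (L (0, r)) (L (0, s)),
      show H6 (T (0, r)) (T (0, s)) = _ from hT (0, r) (0, s)] at h1
    simpa [A, hfst, hzero_left hF hσ] using h1
  let B : Cfsg.SU 4 F 2 := CfsgLib.Classical.suMk (LinearMap.toMatrix' A)
    (by rw [LinearMap.det_toMatrix', hdetA]) (fun r s => by
      rw [LinearMap.toMatrix'_mulVec, LinearMap.toMatrix'_mulVec, hformA])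
  have hB : ∀ r, act B r = A r := fun r => LinearMap.toMatrix'_mulVec _ _
  refine ⟨g₂, B, T, hgg, hT, fun p r => ?_, fun r => ?_⟩
  · rw [hB, ← hL, hL2]
    rfl
  · have hperp : ∀ w ∈ W, H6 (T (0, r)) w = 0 := by
      intro w hw
      obtain ⟨⟨p, s⟩, rfl⟩ := T.surjective w
      obtain rfl : s = 0 := (hTW (p, s)).1 hw
      rw [show H6 (T (0, r)) (T (p, 0)) = _ from hT (0, r) (p, 0)]
      simp [hzero_left hF hσ, hzero_right hF hσ]
    refine ⟨hperp u (Submodule.subset_span (Set.mem_insert _ _)), ?_⟩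
    have h1 := hperp y₀ (Submodule.subset_span (Set.mem_insert_of_mem _ rfl))
    rw [hy0def, smul_right hF, mul_eq_zero] at h1
    exact h1.resolve_left (pow_ne_zero _ (inv_ne_zero huv))

/-- An element fixing two non-orthogonal points lies in every subgroup containing all points orthogonal to both. -/
theorem pair_mem {N : Subgroup PSU6} {u v : V6} (hu : Isot 2 u) (hv : Isot 2 v) (huv : H6 v u ≠ 0)
    (hN : ∀ x d, IsPt x d → H6 d u = 0 → H6 d v = 0 → x ∈ N)
    {g : SU6} {lam mu : F} (hgu : act g u = lam • u) (hgv : act g v = mu • v) : psuMk g ∈ N := by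
  obtain ⟨σ, hσ⟩ := exists_sigma hF
  obtain ⟨g', B, T, hg', hT, hgB, hperp⟩ := pair_split hF hu hv huv hgu hgv
  obtain ⟨m, hm, hmB⟩ : ∃ m : SU6, psuMk m ∈ N ∧ ∀ p r, act m (T (p, r)) = T (p, act B r) := by
    have hBmem : B ∈ Subgroup.closure {A : Cfsg.SU 4 F 2 | ∃ (w : Fin 4 → F) (c : F), hermForm 4 F 2 w w = 0 ∧
        ((A : SpecialLinearGroup (Fin 4) F) : Matrix (Fin 4) (Fin 4) F) = unitaryTransvection 4 2 w c} := by
      rw [CfsgLib.Classical.Unitary.su_closure_transvections hF (by norm_num) (by norm_num)]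
      exact Subgroup.mem_top B
    clear hgB
    induction hBmem using Subgroup.closure_induction with
    | mem B hB =>
      obtain ⟨w, c, hw, hc⟩ := hB
      rcases four_transvection hF hw hc with h | ⟨hw0, h⟩
      · exact ⟨1, by rw [map_one]; exact one_mem N, fun p r => by rw [act_one, h]⟩
      have hd : Isot 2 (T (0, w)) := by
        refine ⟨fun e => hw0 ?_, ?_⟩
        · have := T.map_eq_zero_iff.1 e
          exact congrArg Prod.snd this
        · rw [hT (0, w) (0, w)]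
          simp [hw, hzero_left hF hσ]
      obtain ⟨x, -, t, ht, -⟩ := exists_pt hF hd
      refine ⟨t, hN _ _ ⟨hd, t, ht, rfl⟩ (hperp w).1 (hperp w).2, fun p r => ?_⟩
      rw [ht, hT (p, r) (0, w), h, ← map_smul, ← map_add]
      congr 1
      simp [hzero_right hF hσ, Prod.ext_iff]
    | one => exact ⟨1, by rw [map_one]; exact one_mem N, fun p r => by rw [act_one, act_one]⟩
    | mul B C _ _ h1 h2 =>
      obtain ⟨m, hm, hmB⟩ := h1
      obtain ⟨k, hk, hkC⟩ := h2
      exact ⟨m * k, by rw [map_mul]; exact mul_mem hm hk, fun p r => by rw [act_mul, hkC, hmB, act_mul]⟩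
    | inv B _ h1 =>
      obtain ⟨m, hm, hmB⟩ := h1
      refine ⟨m⁻¹, by rw [map_inv]; exact inv_mem hm, fun p r => ?_⟩
      have := hmB p (act B⁻¹ r)
      rw [act_apply_inv] at this
      rw [← this, act_inv_apply]
  rw [← hg']
  rwa [show g' = m from act_ext fun y => by
    obtain ⟨⟨p, r⟩, rfl⟩ := T.surjective y
    rw [hmB, hgB]]

/-- An element fixing two non-orthogonal points and all points orthogonal to both is trivial. -/
theorem pair_one {u v : V6} (hu : Isot 2 u) (hv : Isot 2 v) (huv : H6 v u ≠ 0)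
    {g : SU6} {lam mu : F} (hgu : act g u = lam • u) (hgv : act g v = mu • v)
    (heig : ∀ s : V6, Isot 2 s → H6 s u = 0 → H6 s v = 0 → ∃ ν : F, act g s = ν • s) : psuMk g = 1 := by
  obtain ⟨σ, hσ⟩ := exists_sigma hF
  have := charTwo hF
  obtain ⟨g', B, T, hg', hT, hgB, hperp⟩ := pair_split hF hu hv huv hgu hgv
  rw [← hg']
  have hvec : ∀ r : Fin 4 → F, r ≠ 0 → Cfsg.hermForm 4 F 2 r r = 0 → ∃ ν : F, act B r = ν • r := by
    intro r hr0 hrr
    have hd : Isot 2 (T (0, r)) := by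
      refine ⟨fun e => hr0 ?_, ?_⟩
      · have := T.map_eq_zero_iff.1 e
        exact congrArg Prod.snd this
      · rw [hT (0, r) (0, r)]
        simp [hrr, hzero_left hF hσ]
    obtain ⟨ν, hν⟩ := heig _ hd (hperp r).1 (hperp r).2
    obtain ⟨X, hX⟩ := exists_pt hF hd
    have h1 := hX.conj hF g
    have h2 := hX.conj hF g'
    rw [hg'] at h2
    obtain ⟨c, -, hc⟩ := IsPt.span_eq hF h1 h2
    rw [hgB, hν, smul_smul, ← map_smul] at hc
    exact ⟨c * ν, congrArg Prod.snd (T.injective hc)⟩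
  obtain ⟨ω, hω0, hω1, -, -⟩ := exists_omega hF
  let e : Fin 4 → Fin 4 → F := fun i => Pi.single i 1
  have hiso : ∀ r : Fin 4 → F, Cfsg.hermForm 4 F 2 r r = ∑ i, r i * r i ^ 2 := fun r => rfl
  have hsum : ∀ t : F, t ≠ 0 → 1 + t * t ^ 2 = 0 := by
    intro t ht
    rw [← pow_succ', cube_eq_one hF ht, add_self hF]
  -- a common eigenvalue
  obtain ⟨ρ, hρ⟩ := hvec ![1, 1, 1, 1] (fun h => one_ne_zero (congrFun h 0)) (by
    rw [hiso, Fin.sum_univ_four]
    simp only [Matrix.cons_val]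
    linear_combination (2 : F) * CharTwo.two_eq_zero (R := F))
  have hlow : ∀ t : F, t ≠ 0 → act B ![1, t, 0, 0] = ρ • ![1, t, 0, 0] := by
    intro t ht
    obtain ⟨p, hp⟩ := hvec ![1, t, 0, 0] (fun h => one_ne_zero (congrFun h 0)) (by
      rw [hiso, Fin.sum_univ_four]; simp only [Matrix.cons_val]; linear_combination hsum t ht)
    obtain ⟨q, hq⟩ := hvec ![0, 0, 1, 1] (fun h => one_ne_zero (congrFun h 2)) (by
      rw [hiso, Fin.sum_univ_four]; simp only [Matrix.cons_val]; linear_combination hsum 1 one_ne_zero)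
    obtain ⟨r, hr⟩ := hvec ![1, t, 1, 1] (fun h => one_ne_zero (congrFun h 0)) (by
      rw [hiso, Fin.sum_univ_four]; simp only [Matrix.cons_val]
      linear_combination hsum t ht + hsum 1 one_ne_zero)
    obtain ⟨p₁, hp₁⟩ := hvec ![1, 1, 0, 0] (fun h => one_ne_zero (congrFun h 0)) (by
      rw [hiso, Fin.sum_univ_four]; simp only [Matrix.cons_val]; linear_combination hsum 1 one_ne_zero)
    have e1 : (![1, t, 1, 1] : Fin 4 → F) = ![1, t, 0, 0] + ![0, 0, 1, 1] := by
      ext i; fin_cases i <;> simp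
    have e2 : (![1, 1, 1, 1] : Fin 4 → F) = ![1, 1, 0, 0] + ![0, 0, 1, 1] := by
      ext i; fin_cases i <;> simp
    rw [e1, act_add, hp, hq] at hr
    rw [e2, act_add, hp₁, hq] at hρ
    have a0 := congrFun hr 0
    have a2 := congrFun hr 2
    have b0 := congrFun hρ 0
    have b2 := congrFun hρ 2
    simp at a0 a2 b0 b2
    rw [hp, a0, ← a2, b2]
  have hhigh : ∀ t : F, t ≠ 0 → act B ![0, 0, 1, t] = ρ • ![0, 0, 1, t] := by
    intro t ht
    obtain ⟨q, hq⟩ := hvec ![0, 0, 1, t] (fun h => one_ne_zero (congrFun h 2)) (by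
      rw [hiso, Fin.sum_univ_four]; simp only [Matrix.cons_val]; linear_combination hsum t ht)
    obtain ⟨r, hr⟩ := hvec ![1, 1, 1, t] (fun h => one_ne_zero (congrFun h 0)) (by
      rw [hiso, Fin.sum_univ_four]; simp only [Matrix.cons_val]
      linear_combination hsum t ht + hsum 1 one_ne_zero)
    have e1 : (![1, 1, 1, t] : Fin 4 → F) = ![1, 1, 0, 0] + ![0, 0, 1, t] := by
      ext i; fin_cases i <;> simp
    rw [e1, act_add, hlow 1 one_ne_zero, hq] at hr
    have a0 := congrFun hr 0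
    have a2 := congrFun hr 2
    simp at a0 a2
    rw [hq, a2, ← a0]
  have hall : ∀ r, act B r = ρ • r := by
    intro r
    have h1 : (1 : F) - ω ≠ 0 := sub_ne_zero.2 (Ne.symm hω1)
    have hr : r = ((r 1 - ω * r 0) / (1 - ω)) • ![1, 1, 0, 0] +
        (r 0 - (r 1 - ω * r 0) / (1 - ω)) • ![1, ω, 0, 0] +
        (((r 3 - ω * r 2) / (1 - ω)) • ![0, 0, 1, 1] +
        (r 2 - (r 3 - ω * r 2) / (1 - ω)) • ![0, 0, 1, ω]) := by
      ext i
      fin_cases i <;> simp <;> field_simp <;> ring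
    rw [hr]
    simp only [act_add, act_smul, hlow 1 one_ne_zero, hlow ω hω0, hhigh 1 one_ne_zero, hhigh ω hω0, smul_add]
    simp only [smul_comm ρ]
  have hdet : ρ ^ 4 = 1 := by
    have hM : ((B.1 : SpecialLinearGroup (Fin 4) F) : Matrix (Fin 4) (Fin 4) F) = ρ • 1 :=
      Matrix.ext_of_mulVec_single fun i => by
        rw [← four_act, hall, smul_mulVec, one_mulVec]
    have h := B.1.2
    rw [hM, det_smul, det_one, mul_one, Fintype.card_fin] at h
    exact h
  have hρ1 : ρ = 1 := by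
    have h0 : ρ ≠ 0 := fun h => by rw [h] at hdet; simp at hdet
    rw [pow_succ, cube_eq_one hF h0, one_mul] at hdet
    exact hdet
  rw [show g' = 1 from act_ext fun y => by
    obtain ⟨⟨p, r⟩, rfl⟩ := T.surjective y
    rw [hgB, hall, hρ1, one_smul, act_one], map_one]

end CfsgLib.U6
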