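import Cfsg.Agent.Lib.FischerPair.Basic
import Cfsg.Agent.Lib.FischerPair.U6Pair
import Cfsg.Agent.Lib.ThreeTransp.M22Extra
import Cfsg.Agent.Lib.ThreeTransp.M22Centralizer
import Cfsg.Agent.Lib.ThreeTransp.M22Count

/-!
# Groups of type `M(22)`: common neighbours of a non-commuting pair
-/

set_option autoImplicit false

namespace CfsgLib.M22

open CfsgLib.ThreeTransp CfsgLib.SporMisc CfsgLib.FischerPair
open CfsgLib.U6 (IsPt)
open CfsgLib.PSUAut (Isot act)
open CfsgLib.UnitarySpec (psuMk)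

variable {G : Type*} [Group G] {D : Set G}
variable [Finite G] (S : Setup D) {F : Type} [Field F] [Fintype F] (hF : Fintype.card F = 2 ^ 2)
  (hM : ∀ a ∈ D, Nonempty (Model D a F))
include S hF hM

/-- An element of the group of the link of `x` acts on vectors, fixing the points of the members it centralises. -/
theorem exists_lift_fix {x k : G} (hx : x ∈ D) (X : Model D x F) (hk : k ∈ Subgroup.closure (link D x)) :
    ∃ g : Cfsg.SU 6 F 2, psuMk g = X.ψ ⟨k, hk⟩ ∧ ∀ {e : G} (le : e ∈ link D x) {u : Fin 6 → F},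
      IsPt (X.img le) u → Commute k e → ∃ lam : F, act g u = lam • u := by
  obtain ⟨g, hg⟩ := QuotientGroup.mk'_surjective (Subgroup.center (Cfsg.SU 6 F 2)) (X.ψ ⟨k, hk⟩)
  have hg' : psuMk g = X.ψ ⟨k, hk⟩ := hg
  refine ⟨g, hg', fun {e} le {u} hu hc => ?_⟩
  have h1 := hu.conj hF g
  rw [hg'] at h1
  have hfix : X.img (Model.conj_mem S le ⟨k, hk⟩) = X.img le :=
    congrArg X.ψ (Subtype.ext (show k * e * k⁻¹ = e by rw [hc.eq, mul_inv_cancel_right]))
  rw [← X.img_conj S le ⟨k, hk⟩, hfix] at h1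
  obtain ⟨lam, -, hlam⟩ := IsPt.span_eq hF hu h1
  exact ⟨lam, hlam⟩

omit hM in
/-- The members of the link of `x` commuting with two non-commuting members are their common neighbours. -/
theorem common_of_link {a d x f : G} (ha : a ∈ D) (hd : d ∈ D) (hnc : ¬ Commute a d) (hx : x ∈ common D a d)
    (lf : f ∈ link D x) (cfa : Commute f a) (cfd : Commute f d) : f ∈ common D a d ∩ link D x :=
  ⟨⟨⟨lf.1, fun h => hnc (h ▸ cfd), cfa.symm⟩, lf.1, fun h => hnc (h ▸ cfa).symm, cfd.symm⟩, lf⟩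

omit hM in
/-- The vectors of a non-commuting pair in the link of a common neighbour. -/
theorem pair_vectors {a d x : G} (ha : a ∈ D) (hd : d ∈ D) (hnc : ¬ Commute a d) (hx : x ∈ common D a d)
    (X : Model D x F) : ∃ (la : a ∈ link D x) (ld : d ∈ link D x) (A C : Fin 6 → F),
      IsPt (X.img la) A ∧ IsPt (X.img ld) C ∧ Cfsg.hermForm 6 F 2 C A ≠ 0 := by
  have la := link_swap ha hx.1
  have ld := link_swap hd hx.2
  obtain ⟨A, hA⟩ := X.exists_pt_of_link S hF hx.1.1 la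
  obtain ⟨C, hC⟩ := X.exists_pt_of_link S hF hx.1.1 ld
  exact ⟨la, ld, A, C, hA, hC, fun h => hnc ((X.comm_iff S hF hx.1.1 ld la hC hA).2 h).symm⟩

/-- Common neighbours form one orbit. -/
theorem common_trans {a d x y : G} (ha : a ∈ D) (hd : d ∈ D) (hnc : ¬ Commute a d) (hx : x ∈ common D a d)
    (hy : y ∈ common D a d) : ∃ k ∈ dSub D a d, k * x * k⁻¹ = y := by
  by_cases hc : Commute x y
  swap
  · exact dSub_conj_of_not_commute S.tt hx hy hc
  obtain ⟨m, hm, hmx, hmy⟩ : ∃ m ∈ common D a d, ¬ Commute x m ∧ ¬ Commute m y := by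
    by_contra hcon
    push Not at hcon
    have hsub : common D a d ⊆ insert x (link D a ∩ link D d ∩ link D x) ∪
        insert y (link D a ∩ link D d ∩ link D y) := by
      intro m hm
      by_cases hxm : Commute x m
      · left
        by_cases e : m = x
        · exact Or.inl e
        · exact Or.inr ⟨hm, hm.1.1, e, hxm⟩
      · right
        by_cases e : m = y
        · exact Or.inl e
        · exact Or.inr ⟨hm, hm.1.1, e, (hcon m hm hxm).symm⟩
    have h1 := (Set.ncard_le_ncard hsub (Set.toFinite _)).trans (Set.ncard_union_le _ _)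
    have h2 := (nonlink_count S hF hM ha hd hnc).2
    rw [Set.ncard_insert_of_notMem (fun h => h.2.2.1 rfl) (Set.toFinite _),
      Set.ncard_insert_of_notMem (fun h => h.2.2.1 rfl) (Set.toFinite _),
      link_three_ncard S hF hM ha hd hnc hx.1 hx.2, link_three_ncard S hF hM ha hd hnc hy.1 hy.2] at h1
    simp only [common] at h1
    omega
  obtain ⟨k, hk, e1⟩ := dSub_conj_of_not_commute S.tt hx hm hmx
  obtain ⟨l, hl, e2⟩ := dSub_conj_of_not_commute S.tt hm hy hmy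
  exact ⟨l * k, mul_mem hl hk, by rw [← e2, ← e1]; group⟩

/-- The joint centraliser of a non-commuting pair is generated by the common neighbours. -/
theorem common_cent {a d g : G} (ha : a ∈ D) (hd : d ∈ D) (hnc : ¬ Commute a d) (hga : Commute g a)
    (hgd : Commute g d) : g ∈ dSub D a d := by
  obtain ⟨x, hxa, hxd⟩ := exists_common S hF hM ha hd hnc
  have hx : x ∈ common D a d := ⟨hxa, hxd⟩
  obtain ⟨k, hk, hkx⟩ := common_trans S hF hM ha hd hnc hx (dSub_conj_mem S.tt hga hgd hx)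
  have hh : Commute (k⁻¹ * g) x := by
    show k⁻¹ * g * x = x * (k⁻¹ * g)
    calc k⁻¹ * g * x = k⁻¹ * (g * x * g⁻¹) * g := by group
      _ = x * (k⁻¹ * g) := by rw [← hkx]; group
  have hmem : k⁻¹ * g ∈ Subgroup.closure (link D x) := by
    rw [← centralizer_eq S hF hM hxa.1, Subgroup.mem_centralizer_singleton_iff]
    exact hh.eq
  obtain ⟨X⟩ := hM x hxa.1
  obtain ⟨la, ld, A, C, hA, hC, hCA⟩ := pair_vectors S hF ha hd hnc hx X
  obtain ⟨s, hs, hfix⟩ := exists_lift_fix S hF hM hxa.1 X hmem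
  obtain ⟨lam, hlam⟩ := hfix la hA ((dSub_commute hk).1.inv_left.mul_left hga)
  obtain ⟨mu, hmu⟩ := hfix ld hC ((dSub_commute hk).2.inv_left.mul_left hgd)
  have hN := U6.pair_mem hF hA.1 hC.1 hCA
    (N := ((dSub D a d).subgroupOf (Subgroup.closure (link D x))).map X.ψ) (fun z w hz hwA hwC => by
      obtain ⟨f, lf, rfl⟩ := X.exists_link_of_pt S hF hxa.1 hz
      exact ⟨⟨f, Subgroup.subset_closure lf⟩, Subgroup.subset_closure (common_of_link S hF ha hd hnc hx lf
        ((X.comm_iff S hF hxa.1 lf la hz hA).2 hwA) ((X.comm_iff S hF hxa.1 lf ld hz hC).2 hwC)).1, rfl⟩)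
    hlam hmu
  rw [hs] at hN
  obtain ⟨⟨m, hm⟩, hmK, hmk⟩ := Subgroup.mem_map.1 hN
  have hmK' : m ∈ dSub D a d := hmK
  have hmem' : m⁻¹ * (k⁻¹ * g) ∈ Subgroup.closure (link D x) := mul_mem (inv_mem hm) hmem
  have hker : X.ψ ⟨m⁻¹ * (k⁻¹ * g), hmem'⟩ = 1 := by
    rw [show (⟨m⁻¹ * (k⁻¹ * g), hmem'⟩ : ↥(Subgroup.closure (link D x))) =
      (⟨m, hm⟩ : ↥(Subgroup.closure (link D x)))⁻¹ * ⟨k⁻¹ * g, hmem⟩ from rfl, map_mul, map_inv, hmk,
      inv_mul_cancel]
  have : m⁻¹ * (k⁻¹ * g) ∈ dSub D a d := by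
    rcases central_cases S hF hM hxa.1 X hmem' hker with h | h
    · rw [h]; exact one_mem _
    · rw [h]; exact Subgroup.subset_closure hx
  have := mul_mem hk (mul_mem hmK' this)
  rwa [mul_inv_cancel_left, mul_inv_cancel_left] at this

/-- Only the identity centralises a non-commuting pair and its common neighbours. -/
theorem common_center {a d z : G} (ha : a ∈ D) (hd : d ∈ D) (hnc : ¬ Commute a d) (hza : Commute z a)
    (hzd : Commute z d) (hall : ∀ x ∈ common D a d, Commute z x) : z = 1 := by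
  have key : ∀ x ∈ common D a d, z = 1 ∨ z = x := by
    intro x hx
    have hmem : z ∈ Subgroup.closure (link D x) := by
      rw [← centralizer_eq S hF hM hx.1.1, Subgroup.mem_centralizer_singleton_iff]
      exact (hall x hx).eq
    obtain ⟨X⟩ := hM x hx.1.1
    obtain ⟨la, ld, A, C, hA, hC, hCA⟩ := pair_vectors S hF ha hd hnc hx X
    obtain ⟨s, hs, hfix⟩ := exists_lift_fix S hF hM hx.1.1 X hmem
    obtain ⟨lam, hlam⟩ := hfix la hA hza
    obtain ⟨mu, hmu⟩ := hfix ld hC hzd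
    refine central_cases S hF hM hx.1.1 X hmem ?_
    rw [← hs]
    refine U6.pair_one hF hA.1 hC.1 hCA hlam hmu fun w hw hwA hwC => ?_
    obtain ⟨W, hW⟩ := U6.exists_pt hF hw
    obtain ⟨f, lf, rfl⟩ := X.exists_link_of_pt S hF hx.1.1 hW
    exact hfix lf hW (hall f (common_of_link S hF ha hd hnc hx lf
      ((X.comm_iff S hF hx.1.1 lf la hW hA).2 hwA) ((X.comm_iff S hF hx.1.1 lf ld hW hC).2 hwC)).1)
  obtain ⟨x, hxa, hxd⟩ := exists_common S hF hM ha hd hnc
  obtain ⟨w, hw⟩ : (link D a ∩ link D d ∩ link D x).Nonempty :=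
    (Set.ncard_pos (Set.toFinite _)).1 (by rw [link_three_ncard S hF hM ha hd hnc hxa hxd]; norm_num)
  rcases key x ⟨hxa, hxd⟩ with h | h
  · exact h
  · rcases key w hw.1 with h' | h'
    · exact h'
    · exact absurd (h'.symm.trans h) hw.2.2.1

/-- At most six pairwise commuting common neighbours. -/
theorem common_width_le {a d : G} {E : Set G} (ha : a ∈ D) (hd : d ∈ D) (hnc : ¬ Commute a d)
    (hE : E ⊆ common D a d) (hc : ∀ x ∈ E, ∀ y ∈ E, Commute x y) : E.ncard ≤ 6 := by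
  classical
  by_cases h0 : E = ∅
  · simp [h0]
  obtain ⟨x, hxE⟩ := Set.nonempty_iff_ne_empty.2 h0
  have hsum := Set.ncard_sdiff_singleton_add_one hxE
  by_cases h1 : (E \ {x}).ncard ≤ 1
  · omega
  obtain ⟨z, w, hz, hw, hzw⟩ := (Set.one_lt_ncard_iff (Set.toFinite (E \ {x}))).1 (by omega)
  have hx := hE hxE
  have hl : ∀ e ∈ E \ {x}, e ∈ link D x := fun e he => ⟨(hE he.1).1.1, he.2, hc x hxE e he.1⟩
  obtain ⟨X⟩ := hM x hx.1.1
  obtain ⟨la, ld, A, C, hA, hC, hCA⟩ := pair_vectors S hF ha hd hnc hx X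
  have hxD := hx.1.1
  obtain ⟨p, hp⟩ := X.exists_pt_of_link S hF hxD (hl z hz)
  obtain ⟨q, hq⟩ := X.exists_pt_of_link S hF hxD (hl w hw)
  have hpq : Cfsg.hermForm 6 F 2 p q = 0 :=
    (X.comm_iff S hF hxD (hl z hz) (hl w hw) hp hq).1 (hc z hz.1 w hw.1)
  have hne : X.img (hl z hz) ≠ X.img (hl w hw) := fun h => hzw (X.img_inj S hxD _ _ h)
  obtain ⟨x₂, x₃, x₄, w₂, w₃, w₄, -, -, -, -, -, -, -, -, hline⟩ := U6.exists_line hF hp hq hpq hne
  have hperp : ∀ e (he : e ∈ E \ {x}) (v : Fin 6 → F), IsPt (X.img (hl e he)) v →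
      Cfsg.hermForm 6 F 2 v A = 0 ∧ Cfsg.hermForm 6 F 2 v C = 0 := fun e he v hv =>
    ⟨(X.comm_iff S hF hxD (hl e he) la hv hA).1 (hE he.1).1.2.2.symm,
      (X.comm_iff S hF hxD (hl e he) ld hv hC).1 (hE he.1).2.2.2.symm⟩
  obtain ⟨pA, pC⟩ := hperp z hz p hp
  obtain ⟨qA, qC⟩ := hperp w hw q hq
  have hqp : q ∉ Submodule.span F {p} := IsPt.notMem_span hF hp hq hne
  have P : U6.IsPlane p q A := ⟨hp.1.2, hq.1.2, hA.1.2, hpq, pA, qA, hp.1.1, hqp, fun h => hCA (by
    obtain ⟨r, t, rfl⟩ := Submodule.mem_span_pair.1 h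
    rw [U6.add_right hF, U6.smul_right hF, U6.smul_right hF, (U6.comm_zero hF).1 pC, (U6.comm_zero hF).1 qC,
      mul_zero, mul_zero, add_zero])⟩
  have hmem : ∀ e (he : e ∈ E \ {x}), X.img (hl e he) ∈ [X.img (hl z hz), X.img (hl w hw), x₂, x₃, x₄] := by
    intro e he
    obtain ⟨v, hv⟩ := X.exists_pt_of_link S hF hxD (hl e he)
    obtain ⟨vA, vC⟩ := hperp e he v hv
    have vp : Cfsg.hermForm 6 F 2 v p = 0 := (X.comm_iff S hF hxD (hl e he) (hl z hz) hv hp).1 (hc e he.1 z hz.1)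
    have vq : Cfsg.hermForm 6 F 2 v q = 0 := (X.comm_iff S hF hxD (hl e he) (hl w hw) hv hq).1 (hc e he.1 w hw.1)
    obtain ⟨r, t, o, rfl⟩ := P.mem_of_perp hF vp vq vA
    refine hline _ _ hv ?_
    rw [U6.add_left hF, U6.add_left hF, U6.smul_left hF, U6.smul_left hF, U6.smul_left hF, pC, qC, mul_zero,
      mul_zero, zero_add, zero_add, mul_eq_zero] at vC
    rw [vC.resolve_right fun h => hCA ((U6.comm_zero hF).1 h), zero_smul, add_zero]
    exact Submodule.mem_span_pair.2 ⟨r, t, rfl⟩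
  let L : Set (Cfsg.PSU 6 F 2) := ↑[X.img (hl z hz), X.img (hl w hw), x₂, x₃, x₄].toFinset
  let T : Set (Cfsg.PSU 6 F 2) := {i | ∃ (e : G) (he : e ∈ E \ {x}), X.img (hl e he) = i}
  have hT : (E \ {x}).ncard = T.ncard := by
    refine Set.ncard_congr (fun e he => X.img (hl e he)) (fun e he => ⟨e, he, rfl⟩)
      (fun e f he hf h => X.img_inj S hxD _ _ h) ?_
    rintro i ⟨e, he, rfl⟩
    exact ⟨e, he, rfl⟩
  have hTL : T ⊆ L := by
    rintro i ⟨e, he, rfl⟩
    simpa [L] using hmem e he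
  have hle := Set.ncard_le_ncard hTL (Finset.finite_toSet _)
  have hL : L.ncard ≤ 5 := by
    simp only [L, Set.ncard_coe_finset]
    exact le_trans (List.toFinset_card_le _) (by simp)
  omega

/-- Six pairwise commuting common neighbours. -/
theorem common_width_ge {a d : G} (ha : a ∈ D) (hd : d ∈ D) (hnc : ¬ Commute a d) :
    ∃ E ⊆ common D a d, (∀ x ∈ E, ∀ y ∈ E, Commute x y) ∧ E.ncard = 6 := by
  classical
  obtain ⟨x, hxa, hxd⟩ := exists_common S hF hM ha hd hnc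
  have hx : x ∈ common D a d := ⟨hxa, hxd⟩
  have hxD := hxa.1
  obtain ⟨z, hz⟩ : (link D a ∩ link D d ∩ link D x).Nonempty :=
    (Set.ncard_pos (Set.toFinite _)).1 (by rw [link_three_ncard S hF hM ha hd hnc hxa hxd]; norm_num)
  obtain ⟨w, hw⟩ : (link D a ∩ link D d ∩ link D x ∩ link D z).Nonempty :=
    (Set.ncard_pos (Set.toFinite _)).1 (by rw [link_four_ncard S hF hM ha hd hnc hxa hxd hz]; norm_num)
  obtain ⟨X⟩ := hM x hxD
  obtain ⟨la, ld, A, C, hA, hC, -⟩ := pair_vectors S hF ha hd hnc hx X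
  obtain ⟨p, hp⟩ := X.exists_pt_of_link S hF hxD hz.2
  obtain ⟨q, hq⟩ := X.exists_pt_of_link S hF hxD hw.1.2
  have hpq : Cfsg.hermForm 6 F 2 p q = 0 := (X.comm_iff S hF hxD hz.2 hw.1.2 hp hq).1 hw.2.2.2
  have hne : X.img hz.2 ≠ X.img hw.1.2 := fun h => hw.2.2.1 (X.img_inj S hxD _ _ h).symm
  obtain ⟨x₂, x₃, x₄, w₂, w₃, w₄, h₂, h₃, h₄, s₂, s₃, s₄, hnd, -, -⟩ := U6.exists_line hF hp hq hpq hne
  have hpA := (X.comm_iff S hF hxD hz.2 la hp hA).1 hz.1.1.2.2.symm
  have hpC := (X.comm_iff S hF hxD hz.2 ld hp hC).1 hz.1.2.2.2.symm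
  have hqA := (X.comm_iff S hF hxD hw.1.2 la hq hA).1 hw.1.1.1.2.2.symm
  have hqC := (X.comm_iff S hF hxD hw.1.2 ld hq hC).1 hw.1.1.2.2.2.symm
  have hu' : p ∈ Submodule.span F {p, q} := Submodule.subset_span (Set.mem_insert _ _)
  have hv' : q ∈ Submodule.span F {p, q} := Submodule.subset_span (Set.mem_insert_of_mem _ rfl)
  set l := [X.img hz.2, X.img hw.1.2, x₂, x₃, x₄] with hl
  have hvec : ∀ i ∈ l, ∃ v ∈ Submodule.span F {p, q}, IsPt i v := by
    intro i hi
    simp only [hl, List.mem_cons, List.not_mem_nil, or_false] at hi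
    rcases hi with rfl | rfl | rfl | rfl | rfl
    exacts [⟨p, hu', hp⟩, ⟨q, hv', hq⟩, ⟨w₂, s₂, h₂⟩, ⟨w₃, s₃, h₃⟩, ⟨w₄, s₄, h₄⟩]
  let E : Set G := {e | ∃ le : e ∈ link D x, X.img le ∈ l}
  have hin : ∀ e ∈ E, e ∈ common D a d ∧ ∀ f ∈ E, Commute e f := by
    rintro e ⟨le, hel⟩
    obtain ⟨v, hv, hev⟩ := hvec _ hel
    have perp : ∀ t, Cfsg.hermForm 6 F 2 p t = 0 → Cfsg.hermForm 6 F 2 q t = 0 →
        Cfsg.hermForm 6 F 2 v t = 0 := fun t h1 h2 => (U6.comm_zero hF).1 (U6.perp_span_right hF hv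
      ((U6.comm_zero hF).1 h1) ((U6.comm_zero hF).1 h2))
    refine ⟨(common_of_link S hF ha hd hnc hx le ((X.comm_iff S hF hxD le la hev hA).2 (perp A hpA hqA))
      ((X.comm_iff S hF hxD le ld hev hC).2 (perp C hpC hqC))).1, ?_⟩
    rintro f ⟨lf, hfl⟩
    obtain ⟨v', hv', hfv⟩ := hvec _ hfl
    exact (X.comm_iff S hF hxD le lf hev hfv).2 (U6.perp_of_mem_span hF hp.1.2 hq.1.2 hpq hv hv')
  have hcard : E.ncard = (↑l.toFinset : Set (Cfsg.PSU 6 F 2)).ncard := by
    refine Set.ncard_congr (fun e he => X.img he.1) (fun e he => by simpa using he.2)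
      (fun e f he hf h => X.img_inj S hxD _ _ h) fun i hi => ?_
    have hi' : i ∈ l := by simpa using hi
    obtain ⟨v, -, hv⟩ := hvec i hi'
    obtain ⟨e, le, rfl⟩ := X.exists_link_of_pt S hF hxD hv
    exact ⟨e, ⟨le, hi'⟩, rfl⟩
  refine ⟨insert x E, Set.insert_subset hx fun e he => (hin e he).1, ?_, ?_⟩
  · rintro e (rfl | he) f (rfl | hf)
    · exact Commute.refl _
    · exact hf.1.2.2
    · exact he.1.2.2.symm
    · exact (hin e he).2 f hf
  · rw [Set.ncard_insert_of_notMem (fun h : x ∈ E => h.1.2.1 rfl) (Set.toFinite _), hcard, Set.ncard_coe_finset,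
      List.toFinset_card_of_nodup hnd]
    rfl

/-- The properties of the common neighbours in type `M(22)`. -/
theorem pairData : PairData D 6 where
  nonempty := fun ha hd hnc => exists_common S hF hM ha hd hnc
  valency := fun ha hd hnc hx => (Set.ncard_pos (Set.toFinite _)).1
    (by rw [common, link_three_ncard S hF hM ha hd hnc hx.1 hx.2]; norm_num)
  only := fun {a d f} ha hd hnc hf haf hall => by
    refine same_common S hF hM ha hd hf hnc haf (Set.eq_of_subset_of_ncard_le (fun x hx => ?_) ?_ (Set.toFinite _))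
    · exact ⟨hx.1, hx.1.1, fun h => haf (h ▸ hx.1.2.2), hall x hx⟩
    · rw [(nonlink_count S hF hM ha hd hnc).2, (nonlink_count S hF hM ha hf haf).2]
  cent := fun ha hd hnc => common_cent S hF hM ha hd hnc
  trans := fun ha hd hnc => common_trans S hF hM ha hd hnc
  center := fun ha hd hnc => common_center S hF hM ha hd hnc
  width_le := fun ha hd hnc => common_width_le S hF hM ha hd hnc
  width_ge := fun ha hd hnc => common_width_ge S hF hM ha hd hnc

omit hM in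
/-- Local transitivity: in the link of `z`, the common neighbours of `a`, `d` not commuting with `b`. -/
theorem common_trans_at (hM : ∀ a ∈ D, Nonempty (Model D a F)) {a d b z c c' : G} (ha : a ∈ D) (hd : d ∈ D)
    (hnc : ¬ Commute a d) (hz : z ∈ common D a d) (hb : b ∈ common D a d ∩ link D z)
    (hc : c ∈ common D a d ∩ link D z) (hc' : c' ∈ common D a d ∩ link D z) (hn : ¬ Commute b c)
    (hn' : ¬ Commute b c') : ∃ h ∈ dSub D a d, Commute h b ∧ h * c * h⁻¹ = c' := by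
  have hzD := hz.1.1
  obtain ⟨Z⟩ := hM z hzD
  obtain ⟨la, ld, A, C, hA, hC, hCA⟩ := pair_vectors S hF ha hd hnc hz Z
  have hAC : Cfsg.hermForm 6 F 2 A C ≠ 0 := fun h => hCA ((U6.comm_zero hF).1 h)
  obtain ⟨u, hu⟩ := Z.exists_pt_of_link S hF hzD hb.2
  have perp : ∀ {e : G} (le : e ∈ link D z), e ∈ common D a d → ∀ {v : Fin 6 → F}, IsPt (Z.img le) v →
      ∀ i, Cfsg.hermForm 6 F 2 v (![A, C] i) = 0 := by
    intro e le he v hv i
    fin_cases i
    · exact (Z.comm_iff S hF hzD le la hv hA).1 he.1.2.2.symm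
    · exact (Z.comm_iff S hF hzD le ld hv hC).1 he.2.2.2.symm
  have norm1 : ∀ {e : G} (le : e ∈ link D z), e ∈ common D a d → ¬ Commute b e → ∃ v, IsPt (Z.img le) v ∧
      Cfsg.hermForm 6 F 2 v u = 1 := by
    intro e le _ hne
    obtain ⟨v, hv⟩ := Z.exists_pt_of_link S hF hzD le
    have h0 : Cfsg.hermForm 6 F 2 v u ≠ 0 := fun h => hne ((Z.comm_iff S hF hzD le hb.2 hv hu).2 h).symm
    exact ⟨(Cfsg.hermForm 6 F 2 v u)⁻¹ • v, hv.smul hF (inv_ne_zero h0),
      by rw [U6.smul_left hF, inv_mul_cancel₀ h0]⟩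
  obtain ⟨y, hy, hyu⟩ := norm1 hc.2 hc.1 hn
  obtain ⟨y', hy', hy'u⟩ := norm1 hc'.2 hc'.1 hn'
  refine U6.orbit hF ![A, C] (by norm_num) (fun t ht hp => ?_) hu.1.2 hy.1.2 hy'.1.2 hyu hy'u (perp hb.2 hb.1 hu)
    (perp hc.2 hc.1 hy) (perp hc'.2 hc'.1 hy')
    (fun t => ∀ (e : G) (le : e ∈ link D z), IsPt (Z.img le) t →
      ∃ h ∈ dSub D a d, Commute h b ∧ h * c * h⁻¹ = e) ?_ ?_ c' hc'.2 hy'
  · rw [Matrix.range_cons, Matrix.range_cons, Matrix.range_empty, Set.union_empty, Set.singleton_union] at ht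
    obtain ⟨α, β, rfl⟩ := Submodule.mem_span_pair.1 ht
    have h1 : Cfsg.hermForm 6 F 2 (α • A + β • C) A = 0 := hp 0
    have h2 : Cfsg.hermForm 6 F 2 (α • A + β • C) C = 0 := hp 1
    rw [U6.add_left hF, U6.smul_left hF, U6.smul_left hF, hA.1.2, mul_zero, zero_add] at h1
    rw [U6.add_left hF, U6.smul_left hF, U6.smul_left hF, hC.1.2, mul_zero, add_zero] at h2
    rw [(mul_eq_zero.1 h2).resolve_right hAC, (mul_eq_zero.1 h1).resolve_right hCA, zero_smul, zero_smul,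
      add_zero]
  · intro v t hv hvp hvu hQ e le he
    obtain ⟨V, hV⟩ := U6.exists_pt hF hv
    obtain ⟨f, lf, rfl⟩ := Z.exists_link_of_pt S hF hzD hV
    obtain ⟨lm, hm⟩ := Z.conj_vec S hF le lf he hV
    rw [show t + Cfsg.hermForm 6 F 2 t v • v + Cfsg.hermForm 6 F 2 (t + Cfsg.hermForm 6 F 2 t v • v) v • v = t by
      rw [U6.add_left hF, U6.smul_left hF, hv.2, mul_zero, add_zero, add_assoc, U6.vadd_self hF, add_zero]] at hm
    obtain ⟨h, hh, hhb, hhc⟩ := hQ _ lm hm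
    have hfK : f ∈ dSub D a d := Subgroup.subset_closure (common_of_link S hF ha hd hnc hz lf
      ((Z.comm_iff S hF hzD lf la hV hA).2 (hvp 0)) ((Z.comm_iff S hF hzD lf ld hV hC).2 (hvp 1))).1
    refine ⟨f * h, mul_mem hfK hh, ((Z.comm_iff S hF hzD lf hb.2 hV hu).2 hvu).mul_left hhb, ?_⟩
    calc f * h * c * (f * h)⁻¹ = f * (h * c * h⁻¹) * f⁻¹ := by group
      _ = e := by
        rw [hhc, S.tt.inv_eq lf.1]
        simp only [mul_assoc, cancel₂ (S.sqd lf.1), S.sqd lf.1, mul_one]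
  · intro e le he
    exact ⟨1, one_mem _, Commute.one_left b, by
      rw [one_mul, inv_one, mul_one]; exact Z.img_inj S hzD hc.2 le (IsPt.unique hF hy he)⟩

/-- The group of the common neighbours is transitive on non-commuting pairs among them. -/
theorem common_pair_trans {a d b c b' c' : G} (ha : a ∈ D) (hd : d ∈ D) (hnc : ¬ Commute a d)
    (hb : b ∈ common D a d) (hc : c ∈ common D a d) (hn : ¬ Commute b c)
    (hb' : b' ∈ common D a d) (hc' : c' ∈ common D a d) (hn' : ¬ Commute b' c') :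
    ∃ k ∈ dSub D a d, k * b * k⁻¹ = b' ∧ k * c * k⁻¹ = c' := by
  obtain ⟨k, hk, hkb⟩ := common_trans S hF hM ha hd hnc hb hb'
  set c₁ := k * c * k⁻¹ with hc₁
  have hc₁m : c₁ ∈ common D a d := dSub_conj_mem S.tt (dSub_commute hk).1 (dSub_commute hk).2 hc
  have hn₁ : ¬ Commute b' c₁ := fun h => hn ((Commute.conj_iff k).1 (hkb.symm ▸ h))
  suffices h : ∃ h ∈ dSub D a d, Commute h b' ∧ h * c₁ * h⁻¹ = c' by
    obtain ⟨h, hh, hhb, hhc⟩ := h
    refine ⟨h * k, mul_mem hh hk, ?_, by rw [← hhc, hc₁]; group⟩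
    rw [show h * k * b * (h * k)⁻¹ = h * (k * b * k⁻¹) * h⁻¹ by group, hkb, hhb.eq, mul_inv_cancel_right]
  have near : ∀ {e : G}, e ∈ common D a d → ¬ Commute b' e →
      ∃ m, m ∈ common D a d ∩ link D b' ∧ e ∈ link D m := by
    intro e he hne
    obtain ⟨m, m1, m2, m3, m4⟩ := exists_commuting S hF hM ha hd hnc hb'.1 hb'.2 he.1 hne
    exact ⟨m, ⟨⟨m1, m2⟩, m3⟩, he.1.1, fun h => hne (h ▸ m3.2.2), m4⟩
  obtain ⟨z, hz, hzc⟩ := near hc₁m hn₁
  obtain ⟨z', hz', hzc'⟩ := near hc' hn'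
  -- the members of the link of `b'` among the common neighbours form one orbit under an element fixing `b'`
  obtain ⟨h₁, hh₁, hh₁b, hh₁z⟩ : ∃ h ∈ dSub D a d, Commute h b' ∧ h * z * h⁻¹ = z' := by
    have conjW : ∀ {p q : G}, p ∈ common D a d ∩ link D b' → q ∈ common D a d ∩ link D b' → ¬ Commute p q →
        ∃ h ∈ dSub D a d, Commute h b' ∧ h * p * h⁻¹ = q := fun {p q} hp hq hpq =>
      ⟨p * q * p, mul_mem (mul_mem (Subgroup.subset_closure hp.1) (Subgroup.subset_closure hq.1))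
        (Subgroup.subset_closure hp.1), (hp.2.2.2.symm.mul_left hq.2.2.2.symm).mul_left hp.2.2.2.symm, by
        rw [S.tt.inv_eq (S.tt.cj_mem hp.1.1.1 hq.1.1.1)]
        exact S.tt.cj_conj_self hp.1.1.1 hq.1.1.1 hpq⟩
    by_cases hzz : Commute z z'
    swap
    · exact conjW hz hz' hzz
    obtain ⟨m, hm, hmz, hmz'⟩ : ∃ m ∈ common D a d ∩ link D b', ¬ Commute z m ∧ ¬ Commute m z' := by
      by_contra hcon
      push Not at hcon
      have hsub : link D a ∩ link D d ∩ link D b' ⊆ insert z (link D a ∩ link D d ∩ link D b' ∩ link D z) ∪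
          insert z' (link D a ∩ link D d ∩ link D b' ∩ link D z') := by
        intro m hm
        by_cases hzm : Commute z m
        · left
          by_cases e : m = z
          · exact Or.inl e
          · exact Or.inr ⟨hm, hm.2.1, e, hzm⟩
        · right
          by_cases e : m = z'
          · exact Or.inl e
          · exact Or.inr ⟨hm, hm.2.1, e, (hcon m hm hzm).symm⟩
      have h1 := (Set.ncard_le_ncard hsub (Set.toFinite _)).trans (Set.ncard_union_le _ _)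
      rw [Set.ncard_insert_of_notMem (fun h => h.2.2.1 rfl) (Set.toFinite _),
        Set.ncard_insert_of_notMem (fun h => h.2.2.1 rfl) (Set.toFinite _),
        link_three_ncard S hF hM ha hd hnc hb'.1 hb'.2,
        link_four_ncard S hF hM ha hd hnc hb'.1 hb'.2 hz,
        link_four_ncard S hF hM ha hd hnc hb'.1 hb'.2 hz'] at h1
      omega
    obtain ⟨p, hp, hpb, hpz⟩ := conjW hz hm hmz
    obtain ⟨q, hq, hqb, hqz⟩ := conjW hm hz' hmz'
    exact ⟨q * p, mul_mem hq hp, hqb.mul_left hpb, by rw [← hqz, ← hpz]; group⟩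
  set c₂ := h₁ * c₁ * h₁⁻¹ with hc₂
  have hc₂m : c₂ ∈ common D a d := dSub_conj_mem S.tt (dSub_commute hh₁).1 (dSub_commute hh₁).2 hc₁m
  have hc₂z : c₂ ∈ link D z' := hh₁z ▸ link_conj S.tt h₁ hzc
  have hn₂ : ¬ Commute b' c₂ := fun h => hn₁ ((Commute.conj_iff h₁).1 (by
    rwa [hh₁b.eq, mul_inv_cancel_right]))
  obtain ⟨h₂, hh₂, hh₂b, hh₂c⟩ := common_trans_at S hF hM ha hd hnc hz'.1
    ⟨hb', link_swap hb'.1.1 hz'.2⟩ ⟨hc₂m, hc₂z⟩ ⟨hc', hzc'⟩ hn₂ hn'
  exact ⟨h₂ * h₁, mul_mem hh₂ hh₁, hh₂b.mul_left hh₁b, by rw [← hh₂c, hc₂]; group⟩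

end CfsgLib.M22
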