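import Cfsg.Agent.Lib.FischerPair.Basic
import Cfsg.Agent.Lib.ThreeTransp.M23Model

/-!
# Transport between non-commuting pairs, and conjugates of the group of order three inside the joint centralizer
-/

set_option autoImplicit false

namespace CfsgLib.FischerPair

open CfsgLib.ThreeTransp

variable {G : Type*} [Group G] {D : Set G} {n : ℕ}

/-- A property invariant under isomorphism holds for the group of the common neighbours when it holds for the
central quotient at a conjugate pair. -/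
theorem dSub_equiv (hD : IsTT D) (P : PairData D n) {a d a' d' : G} (ha : a ∈ D) (hd : d ∈ D)
    (hnc : ¬ Commute a d) {g : G} (hga : g * a * g⁻¹ = a') (hgd : g * d * g⁻¹ = d') {T : Set G} (hT : T = common D a' d') :
    Nonempty (↥(dSub D a d) ≃*
      ↥(Subgroup.closure T) ⧸ Subgroup.center ↥(Subgroup.closure T)) := by
  subst hT
  have himg : (MulAut.conj g : G ≃* G) '' common D a d = common D a' d' := by
    ext x
    constructor
    · rintro ⟨y, hy, rfl⟩
      exact ⟨hga ▸ link_conj hD g hy.1, hgd ▸ link_conj hD g hy.2⟩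
    · intro hx
      refine ⟨g⁻¹ * x * g, ⟨?_, ?_⟩, by simp [mul_assoc]⟩
      · have := link_conj hD g⁻¹ hx.1
        rwa [← hga, inv_inv, show g⁻¹ * (g * a * g⁻¹) * g = a by group] at this
      · have := link_conj hD g⁻¹ hx.2
        rwa [← hgd, inv_inv, show g⁻¹ * (g * d * g⁻¹) * g = d by group] at this
  obtain ⟨e⟩ := CfsgLib.M23.closureQuotEquiv (MulAut.conj g : G ≃* G) himg
  have hZ : Subgroup.center ↥(dSub D a d) = ⊥ := by
    rw [eq_bot_iff]
    rintro ⟨z, hz⟩ hzc
    refine Subgroup.mem_bot.2 (Subtype.ext (P.center ha hd hnc (dSub_commute hz).1 (dSub_commute hz).2 fun x hx => ?_))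
    exact (congrArg Subtype.val (Subgroup.mem_center_iff.1 hzc ⟨x, Subgroup.subset_closure hx⟩)).symm
  exact ⟨(QuotientGroup.quotientBot.symm.trans (QuotientGroup.quotientMulEquivOfEq hZ.symm)).trans e.symm⟩

/-- A non-commuting pair whose product lies in the group of the common neighbours consists of common neighbours. -/
theorem mem_common_of_product (hD : IsTT D) (P : PairData D n) {a d b c : G} (ha : a ∈ D) (hd : d ∈ D)
    (hb : b ∈ D) (hc : c ∈ D) (hnc : ¬ Commute b c) (h : b * c ∈ dSub D a d) :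
    b ∈ common D a d ∧ c ∈ common D a d := by
  have h1 := mem_common_of_commute hD hb hc hnc P ha (dSub_commute h).1.symm
  have h2 := mem_common_of_commute hD hb hc hnc P hd (dSub_commute h).2.symm
  exact ⟨⟨⟨hb, h1.1.2.1.symm, h1.1.2.2.symm⟩, hb, h2.1.2.1.symm, h2.1.2.2.symm⟩,
    ⟨⟨hc, h1.2.2.1.symm, h1.2.2.2.symm⟩, hc, h2.2.2.1.symm, h2.2.2.2.symm⟩⟩

/-- Conjugates of the group of order three inside the group of the common neighbours exist and form one class. -/
theorem conjugates (hD : IsTT D) (P : PairData D n) {a d : G} (ha : a ∈ D) (hd : d ∈ D) (hnc : ¬ Commute a d)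
    (htrans : ∀ b c : G, b ∈ D → c ∈ D → ¬ Commute b c → ∃ g : G, g * a * g⁻¹ = b ∧ g * d * g⁻¹ = c)
    (hpairs : ∀ b c b' c' : G, b ∈ common D a d → c ∈ common D a d → ¬ Commute b c → b' ∈ common D a d →
      c' ∈ common D a d → ¬ Commute b' c' → ∃ k ∈ dSub D a d, k * b * k⁻¹ = b' ∧ k * c * k⁻¹ = c')
    (hex : ∃ b ∈ common D a d, ∃ c ∈ common D a d, ¬ Commute b c) :
    (∃ g : G, (Subgroup.zpowers (a * d)).map (MulAut.conj g).toMonoidHom ≤ dSub D a d) ∧
      ∀ g h : G, (Subgroup.zpowers (a * d)).map (MulAut.conj g).toMonoidHom ≤ dSub D a d →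
        (Subgroup.zpowers (a * d)).map (MulAut.conj h).toMonoidHom ≤ dSub D a d →
        ∃ k ∈ dSub D a d, ((Subgroup.zpowers (a * d)).map (MulAut.conj g).toMonoidHom).map
          (MulAut.conj k).toMonoidHom = (Subgroup.zpowers (a * d)).map (MulAut.conj h).toMonoidHom := by
  have hmap : ∀ g : G, (Subgroup.zpowers (a * d)).map (MulAut.conj g).toMonoidHom =
      Subgroup.zpowers ((g * a * g⁻¹) * (g * d * g⁻¹)) := fun g => by
    rw [MonoidHom.map_zpowers]; congr 1; show g * (a * d) * g⁻¹ = _; group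
  have hin : ∀ g : G, (Subgroup.zpowers (a * d)).map (MulAut.conj g).toMonoidHom ≤ dSub D a d →
      g * a * g⁻¹ ∈ common D a d ∧ g * d * g⁻¹ ∈ common D a d ∧ ¬ Commute (g * a * g⁻¹) (g * d * g⁻¹) := by
    intro g hg
    rw [hmap, Subgroup.zpowers_le] at hg
    have hn : ¬ Commute (g * a * g⁻¹) (g * d * g⁻¹) := fun h => hnc ((Commute.conj_iff g).1 h)
    obtain ⟨h1, h2⟩ := mem_common_of_product hD P ha hd (hD.conj g a ha) (hD.conj g d hd) hn hg
    exact ⟨h1, h2, hn⟩
  refine ⟨?_, fun g h hg hh => ?_⟩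
  · obtain ⟨b, hb, c, hc, hbc⟩ := hex
    obtain ⟨g, hga, hgd⟩ := htrans b c hb.1.1 hc.1.1 hbc
    refine ⟨g, ?_⟩
    rw [hmap, hga, hgd, Subgroup.zpowers_le]
    exact mul_mem (Subgroup.subset_closure hb) (Subgroup.subset_closure hc)
  · obtain ⟨h1, h2, h3⟩ := hin g hg
    obtain ⟨i1, i2, i3⟩ := hin h hh
    obtain ⟨k, hk, hkb, hkc⟩ := hpairs _ _ _ _ h1 h2 h3 i1 i2 i3
    refine ⟨k, hk, ?_⟩
    rw [hmap g, hmap h, MonoidHom.map_zpowers, ← hkb, ← hkc]
    congr 1
    show k * (g * a * g⁻¹ * (g * d * g⁻¹)) * k⁻¹ = _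
    group

end CfsgLib.FischerPair
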