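import Cfsg.Agent.Lib.FischerPair.M23
import Cfsg.Agent.Lib.FischerPair.Transport
import Cfsg.Agent.Lib.ThreeTransp.M24Centralizer
import Cfsg.Agent.Lib.Cores.Layer

/-!
# Groups of type `M(24)`: common neighbours of a non-commuting pair, and their group

The group of the common neighbours has a simple normal subgroup with trivial centralizer and quotient symmetric of
degree three, so that subgroup is the generalized Fitting subgroup.
-/

set_option autoImplicit false
set_option maxRecDepth 20000

namespace CfsgLib.FischerPair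

/-- A simple non-abelian normal subgroup with trivial centralizer is the generalized Fitting subgroup. -/
theorem generalizedFitting_eq_of_simple {L : Type*} [Group L] [Finite L] (N : Subgroup L) [N.Normal]
    [IsSimpleGroup N] (hperf : Group.IsPerfect N) (hC : Subgroup.centralizer (N : Set L) = ⊥) :
    Cfsg.generalizedFittingSubgroup L = N := by
  have hq : Cfsg.IsQuasisimple N := by
    refine ⟨hperf, ?_⟩
    have hc : Subgroup.center N = ⊥ :=
      (IsSimpleGroup.eq_bot_or_eq_top_of_normal (Subgroup.center N) inferInstance).resolve_right fun h => by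
        haveI : IsMulCommutative N := Subgroup.center_eq_top_iff.1 h
        exact not_nontrivial_iff_subsingleton.2 Group.IsPerfect.subsingleton_of_isMulCommutative
          (inferInstance : Nontrivial N)
    let e : N ⧸ Subgroup.center N ≃* N := (QuotientGroup.quotientMulEquivOfEq hc).trans QuotientGroup.quotientBot
    haveI : Nontrivial (N ⧸ Subgroup.center N) := e.toEquiv.nontrivial
    exact IsSimpleGroup.isSimpleGroup_of_surjective e.symm.toMonoidHom e.symm.surjective
  have hN : N ≤ Cfsg.layer L :=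
    le_sSup (show N ∈ {K : Subgroup L | Cfsg.IsComponent K} from
      ⟨(inferInstance : N.Normal).isSubnormal, hq⟩)
  have hcomp : Cfsg.layer L ≤ N := by
    refine sSup_le fun K hK => ?_
    refine (CfsgLib.Cores.component_le_or_commutator_eq_bot hK
      (inferInstance : N.Normal).isSubnormal).resolve_right fun h => CfsgLib.Cores.component_ne_bot hK ?_
    rw [eq_bot_iff, ← hC]
    exact Subgroup.commutator_eq_bot_iff_le_centralizer.1 h
  have hfit : Cfsg.fittingSubgroup L ≤ N := by
    refine sSup_le fun M ⟨hMn, hMnil⟩ => ?_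
    haveI := hMn
    rcases IsSimpleGroup.eq_bot_or_eq_top_of_normal (M.subgroupOf N) inferInstance with h | h
    · refine le_trans ?_ bot_le
      rw [← hC, ← Subgroup.commutator_eq_bot_iff_le_centralizer, eq_bot_iff]
      refine le_trans (Subgroup.commutator_le_inf M N) ?_
      intro x hx
      have : (⟨x, hx.2⟩ : N) ∈ M.subgroupOf N := hx.1
      rw [h, Subgroup.mem_bot] at this
      exact Subgroup.mem_bot.2 (congrArg Subtype.val this)
    · exfalso
      have hle : N ≤ M := Subgroup.subgroupOf_eq_top.1 h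
      haveI := hMnil
      haveI : Group.IsNilpotent N :=
        Subgroup.isNilpotent_of_ker_le_center (Subgroup.inclusion hle) (by rw [(MonoidHom.ker_eq_bot_iff _).2 (Subgroup.inclusion_injective hle)]; exact bot_le)
      exact Group.IsPerfect.not_isSolvable N inferInstance
  exact le_antisymm (sup_le hcomp hfit) (hN.trans le_sup_left)

open CfsgLib.ThreeTransp

variable {G : Type*} [Group G] [Finite G] {D : Set G} {n : ℕ}

/-- If the quotient of the group of the common neighbours by a normal subgroup is symmetric of degree three, the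
centralizer of the normal subgroup is no larger than the subgroup's centre. -/
theorem centralizer_eq_bot_of_quotient (hD : IsTT D) (P : PairData D n) {a d : G} (ha : a ∈ D) (hd : d ∈ D)
    (hnc : ¬ Commute a d) (N : Subgroup ↥(dSub D a d)) [N.Normal] (hZ : Subgroup.center N = ⊥)
    (e : ↥(dSub D a d) ⧸ N ≃* Equiv.Perm (Fin 3)) : Subgroup.centralizer (N : Set ↥(dSub D a d)) = ⊥ := by
  set C := Subgroup.centralizer (N : Set ↥(dSub D a d)) with hC
  have hCn : C.Normal := inferInstance
  let ψ : ↥(dSub D a d) →* Equiv.Perm (Fin 3) := e.toMonoidHom.comp (QuotientGroup.mk' N)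
  have hψs : Function.Surjective ψ := e.surjective.comp (QuotientGroup.mk'_surjective N)
  have hinj : ∀ z ∈ C, ψ z = 1 → z = 1 := by
    intro z hz h
    have hzN : z ∈ N := (QuotientGroup.eq_one_iff z).1 (e.injective (h.trans (map_one e).symm))
    have : (⟨z, hzN⟩ : N) ∈ Subgroup.center N :=
      Subgroup.mem_center_iff.2 fun y => Subtype.ext (Subgroup.mem_centralizer_iff.1 hz (y : ↥(dSub D a d)) y.2)
    rw [hZ, Subgroup.mem_bot] at this
    exact congrArg Subtype.val this
  rw [eq_bot_iff]
  intro z hz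
  by_contra hz1
  rw [Subgroup.mem_bot] at hz1
  -- an element of order three in the centralizer
  obtain ⟨g₀, hg₁, hg₂⟩ := (show ∀ q : Equiv.Perm (Fin 3), q ≠ 1 →
      ∃ g, q * (g * q * g⁻¹) ≠ 1 ∧ (q * (g * q * g⁻¹)) * (q * (g * q * g⁻¹)) * (q * (g * q * g⁻¹)) = 1 by
    decide) (ψ z) fun h => hz1 (hinj z hz h)
  obtain ⟨g, rfl⟩ := hψs g₀
  set p := z * (g * z * g⁻¹) with hp
  have hpC : p ∈ C := mul_mem hz (hCn.conj_mem z hz g)
  rw [← map_inv, ← map_mul, ← map_mul, ← map_mul, ← hp] at hg₁
  rw [← map_inv, ← map_mul, ← map_mul, ← map_mul, ← hp, ← map_mul, ← map_mul] at hg₂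
  have hp3 : p * p * p = 1 := hinj _ (mul_mem (mul_mem hpC hpC) hpC) hg₂
  have hp1 : p ≠ 1 := fun h => hg₁ (by rw [h, map_one])
  -- the members as elements of the group
  let Δ : Set ↥(dSub D a d) := {x | (x : G) ∈ common D a d}
  have hgen : Subgroup.closure Δ = ⊤ := Subgroup.closure_closure_coe_preimage
  have hsq : ∀ x ∈ Δ, x * x = 1 := fun x hx => Subtype.ext (hD.sq _ hx.1.1)
  -- some member inverts it
  obtain ⟨x₀, hx₀, hx₀i⟩ : ∃ x ∈ Δ, ψ x * ψ p * ψ x = (ψ p)⁻¹ := by
    by_contra hcon
    push Not at hcon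
    have key : ∀ q r : Equiv.Perm (Fin 3), q * q = 1 → r ≠ 1 → r * r * r = 1 → q * r * q ≠ r⁻¹ →
        q * r = r * q := by decide
    have hcen : ∀ y : ↥(dSub D a d), ψ y * ψ p = ψ p * ψ y := by
      intro y
      have hy : y ∈ Subgroup.closure Δ := hgen ▸ Subgroup.mem_top y
      induction hy using Subgroup.closure_induction with
      | mem x hx =>
        exact key _ _ (by rw [← map_mul, hsq x hx, map_one]) hg₁
          (by rw [← map_mul, ← map_mul, hp3, map_one]) (hcon x hx)
      | one => rw [map_one, one_mul, mul_one]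
      | mul u v _ _ h1 h2 => rw [map_mul, mul_assoc, h2, ← mul_assoc, h1, mul_assoc]
      | inv u _ h1 =>
        rw [map_inv]
        exact (Commute.inv_left (h1 : Commute (ψ u) (ψ p))).eq
    obtain ⟨s, hs⟩ : ∃ s : Equiv.Perm (Fin 3), s * ψ p ≠ ψ p * s :=
      (show ∀ r : Equiv.Perm (Fin 3), r ≠ 1 → ∃ s, s * r ≠ r * s by decide) _ hg₁
    obtain ⟨y, rfl⟩ := hψs s
    exact hs (hcen y)
  -- every member inverts it
  have hall : ∀ x ∈ Δ, x * p * x = p⁻¹ := by
    intro x hx
    obtain ⟨k, hk, hkx⟩ := P.trans ha hd hnc (show (x₀ : G) ∈ common D a d from hx₀) hx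
    have hkx' : (⟨k, hk⟩ : ↥(dSub D a d)) * x₀ * (⟨k, hk⟩ : ↥(dSub D a d))⁻¹ = x := Subtype.ext hkx
    have h1 : ψ x * ψ p * ψ x = (ψ p)⁻¹ := by
      rw [← hkx']
      simp only [map_mul, map_inv]
      exact (show ∀ q r k : Equiv.Perm (Fin 3), r ≠ 1 → r * r * r = 1 → q * q = 1 → q * r * q = r⁻¹ →
          k * q * k⁻¹ * r * (k * q * k⁻¹) = r⁻¹ by decide) _ _ _ hg₁
        (by rw [← map_mul, ← map_mul, hp3, map_one]) (by rw [← map_mul, hsq x₀ hx₀, map_one]) hx₀i
    have hxC : x * p * x ∈ C := by
      have := hCn.conj_mem p hpC x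
      rwa [inv_eq_of_mul_eq_one_right (hsq x hx)] at this
    have := hinj _ (mul_mem hxC hpC) (by rw [map_mul, map_mul, map_mul, h1, inv_mul_cancel])
    exact mul_eq_one_iff_eq_inv.1 this
  -- so there are at most three members
  obtain ⟨x, hx⟩ := P.nonempty ha hd hnc
  obtain ⟨w, hw, hwx⟩ := P.valency ha hd hnc hx
  let X : ↥(dSub D a d) := ⟨x, Subgroup.subset_closure hx⟩
  have hXX : X * X = 1 := hsq X hx
  have hX : X * p * X = p⁻¹ := hall X hx
  have hconj : p * X * p⁻¹ = X * p := by
    have hXp : X * p⁻¹ = p * X := by rw [← hX]; simp only [← mul_assoc, hXX, one_mul]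
    calc p * X * p⁻¹ = X * p⁻¹ * p⁻¹ := by rw [hXp]
      _ = X * p := by
        rw [mul_assoc]
        congr 1
        rw [← mul_inv_rev, inv_eq_of_mul_eq_one_right hp3]
  set x' := ((p : G)) * x * (p : G)⁻¹ with hx'
  have hx'm : x' ∈ common D a d := dSub_conj_mem hD (dSub_commute p.2).1 (dSub_commute p.2).2 hx
  have hprod : x * x' = (p : G) := by
    have : X * (p * X * p⁻¹) = p := by rw [hconj, ← mul_assoc, hXX, one_mul]
    exact congrArg Subtype.val this
  have hx'nc : ¬ Commute x x' := by
    intro hc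
    have h2 : (p : G) * p = 1 := by
      rw [← hprod]
      calc x * x' * (x * x') = x * x' * (x' * x) := by rw [hc.eq]
        _ = 1 := by simp only [mul_assoc, cancel₂ (hD.sq x' hx'm.1.1), hD.sq x hx.1.1]
    apply hp1
    have h2' : p * p = 1 := Subtype.ext h2
    rwa [h2', one_mul] at hp3
  have hinv : w * (x * x') * w = x' * x := by
    have h1 := congrArg Subtype.val (hall ⟨w, Subgroup.subset_closure hw⟩ hw)
    simp only [Subgroup.coe_mul, Subgroup.coe_inv] at h1
    rw [hprod, h1, ← hprod, mul_inv_rev, hD.inv_eq hx.1.1, hD.inv_eq hx'm.1.1]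
  rcases inverts_cases hD hx.1.1 hx'm.1.1 hx'nc P hw.1.1 hinv with h | h | h
  · exact hwx.2.1 h
  · exact hx'nc (h ▸ hwx.2.2)
  · exact hD.not_commute_cj_left hx.1.1 hx'nc (h ▸ hwx.2.2)

end CfsgLib.FischerPair

namespace CfsgLib.M24

open CfsgLib.ThreeTransp CfsgLib.SporMisc CfsgLib.ThreeTransp.Factor CfsgLib.FischerPair

variable {G : Type*} [Group G] [Finite G] {D : Set G}

theorem linkHyp (S : Setup D) : LinkHyp D 7 where
  tt := S.tt
  ttc := fun _ hx => S.link_ttc hx
  cent := fun _ hx => centralizer_eq S hx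
  ker := fun _ hx k h => pj_eq_one_cases S hx k.2 h
  nonempty := fun ha hd hnc => common_nonempty S ha hd hnc
  data := fun _ hx => M23.pairData (S.link_setup hx)

/-- The properties of the common neighbours in type `M(24)`. -/
theorem pairData (S : Setup D) : PairData D 8 := (linkHyp S).data_above

/-- The group is transitive on non-commuting ordered pairs. -/
theorem pair_trans (S : Setup D) {a d b c : G} (ha : a ∈ D) (hd : d ∈ D) (hnc : ¬ Commute a d) (hb : b ∈ D)
    (hc : c ∈ D) (hbc : ¬ Commute b c) : ∃ g : G, g * a * g⁻¹ = b ∧ g * d * g⁻¹ = c := by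
  obtain ⟨g₁, hg₁⟩ := S.cls ha hb
  have hn : ¬ Commute b (g₁ * d * g₁⁻¹) := fun h => hnc ((Commute.conj_iff g₁).1 (hg₁.symm ▸ h))
  obtain ⟨h, hh, hhc⟩ := trans_nonlink S hb (S.tt.conj g₁ d hd) hc hn hbc
  refine ⟨h * g₁, ?_, by rw [← hhc]; group⟩
  rw [show h * g₁ * a * (h * g₁)⁻¹ = h * (g₁ * a * g₁⁻¹) * h⁻¹ by group, hg₁, hh.eq, mul_inv_cancel_right]

end CfsgLib.M24
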