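import Cfsg.Agent.Lib.ThreeTransp.Transitive
import Cfsg.Prelude.Def_FischerSpaces

/-!
# A non-commuting pair of 3-transpositions and the members centralizing it

For non-commuting members `a`, `d` the members commuting with `a * d` are the common neighbours, the normalizer of
the group of order three is the product of the group of the pair and the group of the common neighbours, and the
properties of the common neighbours needed for this are collected in a structure.
-/

set_option autoImplicit false

namespace CfsgLib.FischerPair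

open CfsgLib.ThreeTransp

variable {G : Type*} [Group G]

/-- The common neighbours of two members. -/
abbrev common (D : Set G) (a d : G) : Set G := link D a ∩ link D d

/-- The group generated by the common neighbours of two members. -/
abbrev dSub (D : Set G) (a d : G) : Subgroup G := Subgroup.closure (common D a d)

theorem common_eq (D : Set G) (a d : G) :
    {y : G | y ∈ D ∧ Commute a y ∧ Commute d y ∧ y ≠ a ∧ y ≠ d} = common D a d :=
  Set.ext fun _ => ⟨fun ⟨h1, h2, h3, h4, h5⟩ => ⟨⟨h1, h4, h2⟩, h1, h5, h3⟩,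
    fun ⟨⟨h1, h4, h2⟩, _, h5, h3⟩ => ⟨h1, h2, h3, h4, h5⟩⟩

/-- What is needed from the common neighbours of non-commuting pairs; `n` is their width. -/
structure PairData (D : Set G) (n : ℕ) : Prop where
  nonempty : ∀ {a d : G}, a ∈ D → d ∈ D → ¬ Commute a d → (common D a d).Nonempty
  valency : ∀ {a d x : G}, a ∈ D → d ∈ D → ¬ Commute a d → x ∈ common D a d →
    (common D a d ∩ link D x).Nonempty
  only : ∀ {a d f : G}, a ∈ D → d ∈ D → ¬ Commute a d → f ∈ D → ¬ Commute a f →
    (∀ x ∈ common D a d, Commute f x) → f = d ∨ f = a * d * a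
  cent : ∀ {a d g : G}, a ∈ D → d ∈ D → ¬ Commute a d → Commute g a → Commute g d → g ∈ dSub D a d
  trans : ∀ {a d x y : G}, a ∈ D → d ∈ D → ¬ Commute a d → x ∈ common D a d → y ∈ common D a d →
    ∃ k ∈ dSub D a d, k * x * k⁻¹ = y
  center : ∀ {a d z : G}, a ∈ D → d ∈ D → ¬ Commute a d → Commute z a → Commute z d →
    (∀ x ∈ common D a d, Commute z x) → z = 1
  width_le : ∀ {a d : G} {E : Set G}, a ∈ D → d ∈ D → ¬ Commute a d → E ⊆ common D a d →
    (∀ x ∈ E, ∀ y ∈ E, Commute x y) → E.ncard ≤ n
  width_ge : ∀ {a d : G}, a ∈ D → d ∈ D → ¬ Commute a d →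
    ∃ E ⊆ common D a d, (∀ x ∈ E, ∀ y ∈ E, Commute x y) ∧ E.ncard = n

variable {D : Set G} {a d : G}

theorem dSub_commute {k : G} (hk : k ∈ dSub D a d) : Commute k a ∧ Commute k d := by
  induction hk using Subgroup.closure_induction with
  | mem x hx => exact ⟨hx.1.2.2.symm, hx.2.2.2.symm⟩
  | one => exact ⟨Commute.one_left a, Commute.one_left d⟩
  | mul x y _ _ h1 h2 => exact ⟨h1.1.mul_left h2.1, h1.2.mul_left h2.2⟩
  | inv x _ h => exact ⟨h.1.inv_left, h.2.inv_left⟩

theorem dSub_conj_mem (hD : IsTT D) {k x : G} (hka : Commute k a) (hkd : Commute k d)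
    (hx : x ∈ common D a d) : k * x * k⁻¹ ∈ common D a d := by
  have h1 := link_conj hD k hx.1
  have h2 := link_conj hD k hx.2
  rw [hka.eq, mul_inv_cancel_right] at h1
  rw [hkd.eq, mul_inv_cancel_right] at h2
  exact ⟨h1, h2⟩

/-- Non-commuting common neighbours are conjugate under the group of the common neighbours. -/
theorem dSub_conj_of_not_commute (hD : IsTT D) {x y : G} (hx : x ∈ common D a d) (hy : y ∈ common D a d)
    (h : ¬ Commute x y) : ∃ k ∈ dSub D a d, k * x * k⁻¹ = y := by
  refine ⟨x * y * x, mul_mem (mul_mem (Subgroup.subset_closure hx) (Subgroup.subset_closure hy))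
    (Subgroup.subset_closure hx), ?_⟩
  rw [hD.inv_eq (hD.cj_mem hx.1.1 hy.1.1)]
  exact hD.cj_conj_self hx.1.1 hy.1.1 h

section Pair

variable (hD : IsTT D) (ha : a ∈ D) (hd : d ∈ D) (hnc : ¬ Commute a d)
include hD ha hd hnc

theorem braid' : d * a * d = a * d * a := (hD.braid ha hd hnc).symm

theorem cj_ne_left : a * d * a ≠ a := by
  intro h
  exact hD.not_commute_cj_left ha hnc (by rw [h])

theorem cj_ne_right : a * d * a ≠ d := by
  intro h
  exact hD.not_commute_cj_right ha hd hnc (by rw [h])

theorem ne_pair : a ≠ d := fun h => hnc (h ▸ Commute.refl a)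

theorem mul_inv_eq : (a * d)⁻¹ = d * a := by rw [mul_inv_rev, hD.inv_eq ha, hD.inv_eq hd]

theorem mul_mul_ne : a * d ≠ d * a := hnc

theorem zpowers_cases {x : G} (hx : x ∈ Subgroup.zpowers (a * d)) : x = 1 ∨ x = a * d ∨ x = d * a := by
  obtain ⟨i, rfl⟩ := Subgroup.mem_zpowers_iff.1 hx
  have h3 : (a * d) ^ (3 : ℤ) = 1 := by
    rw [show (3 : ℤ) = ((3 : ℕ) : ℤ) from rfl, zpow_natCast]
    exact pow_three_eq_one (hD.sq a ha) (hD.sq d hd) (hD.braid ha hd hnc)
  rw [← Int.ediv_mul_add_emod i 3, zpow_add, mul_comm (i / 3) 3, zpow_mul, h3, one_zpow, one_mul]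
  rcases (by omega : i % 3 = 0 ∨ i % 3 = 1 ∨ i % 3 = 2) with h | h | h <;> rw [h]
  · exact Or.inl (zpow_zero _)
  · exact Or.inr (Or.inl (zpow_one _))
  · refine Or.inr (Or.inr ?_)
    rw [← mul_inv_eq hD ha hd hnc, eq_inv_iff_mul_eq_one, ← zpow_add_one]
    exact h3

/-- The inverting members are `a`, `d` and `a * d * a`. -/
theorem inverts_self : a * (a * d) * a = d * a ∧ d * (a * d) * d = d * a ∧
    a * d * a * (a * d) * (a * d * a) = d * a := by
  refine ⟨by rw [cancel₂ (hD.sq a ha)], by rw [← mul_assoc, mul_assoc (d * a), hD.sq d hd, mul_one], ?_⟩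
  simp only [mul_assoc, cancel₂ (hD.sq a ha), cancel₂ (hD.sq d hd)]

variable {n : ℕ} (P : PairData D n)
include P

theorem inverts_cases {f : G} (hf : f ∈ D) (h : f * (a * d) * f = d * a) :
    f = a ∨ f = d ∨ f = a * d * a := by
  have ff := hD.sq f hf
  have aa := hD.sq a ha
  have dd := hD.sq d hd
  by_cases hfa : Commute f a
  · refine Or.inl ?_
    have e1 : f * d * f = a * d * a := by
      calc f * d * f = a * (f * (a * d) * f) := by
            rw [← mul_assoc f a d, hfa.eq]; simp only [mul_assoc, cancel₂ aa]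
        _ = a * d * a := by rw [h]; simp only [mul_assoc]
    have hfd : ¬ Commute f d := by
      intro hc
      rw [hc.eq, mul_assoc, ff, mul_one] at e1
      exact cj_ne_right hD ha hd hnc e1.symm
    rw [hD.braid hf hd hfd, ← braid' hD ha hd hnc] at e1
    exact mul_left_cancel (mul_right_cancel e1)
  · refine Or.inr (P.only ha hd hnc hf (fun hc => hfa hc.symm) fun x hx => ?_)
    by_contra hfx
    have hx' : Commute x (a * d) := hx.1.2.2.symm.mul_right hx.2.2.2.symm
    have hx'' : Commute x (d * a) := hx.2.2.2.symm.mul_right hx.1.2.2.symm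
    have h' : f * (d * a) * f = a * d := by
      rw [← h]; simp only [mul_assoc, cancel₂ ff, ff, mul_one]
    set w := f * x * f with hw
    have hwD := hD.cj_mem hf hx.1.1
    have hcen : Commute w (a * d) := by
      show f * x * f * (a * d) = a * d * (f * x * f)
      calc f * x * f * (a * d) = f * x * (f * (a * d) * f) * f := by
            simp only [mul_assoc, ff, mul_one]
        _ = f * (x * (d * a)) * f := by rw [h]; simp only [mul_assoc]
        _ = f * (d * a) * f * (f * x * f) := by
            rw [hx''.eq]; simp only [mul_assoc, cancel₂ ff]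
        _ = _ := by rw [h']
    have hinv : w * (a * d) * w = d * a := by
      have xx := hD.sq x hx.1.1
      rw [hw, hD.braid hf hx.1.1 hfx]
      calc x * f * x * (a * d) * (x * f * x) = x * f * (x * (a * d) * x) * f * x := by
            simp only [mul_assoc]
        _ = x * (f * (a * d) * f) * x := by
            rw [hx'.eq, mul_assoc (a * d) x x, xx, mul_one]; simp only [mul_assoc]
        _ = d * a := by rw [h, hx''.eq, mul_assoc, xx, mul_one]
    rw [hcen.eq, mul_assoc, hD.sq w hwD, mul_one] at hinv
    exact hnc hinv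

/-- A member commuting with the product of the pair is a common neighbour. -/
theorem mem_common_of_commute {e : G} (he : e ∈ D) (h : Commute e (a * d)) : e ∈ common D a d := by
  have aa := hD.sq a ha
  have dd := hD.sq d hd
  have ee := hD.sq e he
  have hna : ¬ Commute a (a * d) := by
    intro hc
    have := (Commute.refl a).mul_right hc
    rw [cancel₂ aa] at this
    exact hnc this
  have hnd : ¬ Commute d (a * d) := by
    intro hc
    have := hc.mul_right (Commute.refl d)
    rw [mul_assoc, dd, mul_one] at this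
    exact hnc this.symm
  by_cases hea : Commute e a
  · have hed : Commute e d := by
      have := hea.mul_right h
      rwa [cancel₂ aa] at this
    exact ⟨⟨he, fun e' => hna (e' ▸ h), hea.symm⟩, he, fun e' => hnd (e' ▸ h), hed.symm⟩
  exfalso
  have h' : Commute e (d * a) := mul_inv_eq hD ha hd hnc ▸ h.inv_right
  have hw : e * a * e * (a * d) * (e * a * e) = d * a := by
    calc e * a * e * (a * d) * (e * a * e) = e * a * (e * (a * d) * e) * a * e := by simp only [mul_assoc]
      _ = e * (d * a) * e := by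
          rw [h.eq, mul_assoc (a * d) e e, ee, mul_one]; simp only [mul_assoc, cancel₂ aa]
      _ = d * a := by rw [h'.eq, mul_assoc, ee, mul_one]
  rcases inverts_cases hD ha hd hnc P (hD.cj_mem he ha) hw with h1 | h1 | h1
  · refine hea ?_
    show e * a = a * e
    conv_rhs => rw [← h1, mul_assoc, ee, mul_one]
  · rw [hD.braid he ha hea] at h1
    have : e = a * d * a := by rw [← h1]; simp only [mul_assoc, cancel₂ aa, aa, mul_one]
    subst this
    apply ne_pair hD ha hd hnc
    calc a = a * d * a * (a * d) := by simp only [mul_assoc, cancel₂ aa, dd, mul_one]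
      _ = a * d * (a * d * a) := h.eq
      _ = a * (d * a * d) * a := by simp only [mul_assoc]
      _ = d := by rw [braid' hD ha hd hnc]; simp only [mul_assoc, cancel₂ aa, aa, mul_one]
  · rw [hD.braid he ha hea] at h1
    exact hnd (mul_left_cancel (mul_right_cancel h1) ▸ h)

theorem inter_centralizer_eq :
    D ∩ (Subgroup.centralizer ((Subgroup.zpowers (a * d) : Subgroup G) : Set G) : Set G) = common D a d := by
  ext e
  constructor
  · rintro ⟨he, hc⟩
    exact mem_common_of_commute hD ha hd hnc P he
      (Subgroup.mem_centralizer_iff.1 hc (a * d) (Subgroup.mem_zpowers _)).symm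
  · intro he
    refine ⟨he.1.1, Subgroup.mem_centralizer_iff.2 ?_⟩
    rintro _ ⟨i, rfl⟩
    exact ((he.1.2.2.symm.mul_right he.2.2.2.symm).zpow_right i).eq.symm

theorem width_eq :
    Cfsg.commutingWidth
      (D ∩ (Subgroup.centralizer ((Subgroup.zpowers (a * d) : Subgroup G) : Set G) : Set G)) = n := by
  rw [inter_centralizer_eq hD ha hd hnc P]
  refine IsGreatest.csSup_eq ⟨?_, ?_⟩
  · obtain ⟨E, hE, hc, hn⟩ := P.width_ge ha hd hnc
    by_cases h0 : E.Finite
    · exact ⟨E, hE, h0, hc, hn⟩
    · refine ⟨∅, Set.empty_subset _, Set.finite_empty, fun _ h => absurd h (Set.notMem_empty _), ?_⟩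
      rw [Set.ncard_empty, ← hn, Set.Infinite.ncard h0]
  · rintro m ⟨E, hE, -, hc, rfl⟩
    exact P.width_le ha hd hnc hE hc

theorem centralizer_eq : Subgroup.centralizer ({a, d} : Set G) = dSub D a d := by
  refine le_antisymm (fun g hg => ?_) fun g hg => ?_
  · exact P.cent ha hd hnc (Subgroup.mem_centralizer_iff.1 hg a (Or.inl rfl)).symm
      (Subgroup.mem_centralizer_iff.1 hg d (Or.inr rfl)).symm
  · refine Subgroup.mem_centralizer_iff.2 ?_
    rintro x (rfl | rfl)
    · exact (dSub_commute hg).1.eq.symm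
    · exact (dSub_commute hg).2.eq.symm

omit hnc ha hd hD P in
theorem commute_pair {s k : G} (hs : s ∈ Subgroup.closure ({a, d} : Set G)) (hk : k ∈ dSub D a d) :
    s * k = k * s := by
  induction hs using Subgroup.closure_induction with
  | mem x hx =>
    rcases hx with rfl | rfl
    · exact (dSub_commute hk).1.eq.symm
    · exact (dSub_commute hk).2.eq.symm
  | one => rw [one_mul, mul_one]
  | mul x y _ _ h1 h2 => rw [mul_assoc, h2, ← mul_assoc, h1, mul_assoc]
  | inv x _ h => exact (Commute.inv_left (h : Commute x k)).eq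

omit P in
/-- The six elements of the group of the pair. -/
theorem pair_cases {s : G} (hs : s ∈ Subgroup.closure ({a, d} : Set G)) :
    s = 1 ∨ s = a ∨ s = d ∨ s = a * d * a ∨ s = a * d ∨ s = d * a := by
  have aa := hD.sq a ha
  have dd := hD.sq d hd
  have hb := braid' hD ha hd hnc
  let six : G → Prop := fun s => s = 1 ∨ s = a ∨ s = d ∨ s = a * d * a ∨ s = a * d ∨ s = d * a
  have step : ∀ x ∈ ({a, d} : Set G), ∀ y, six y → six (x * y) := by
    intro x hx y hy
    rcases hx with hx | hx <;> cases hx <;> rcases hy with rfl | rfl | rfl | rfl | rfl | rfl <;>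
      simp only [six]
    · simp
    · simp [aa]
    · simp
    · simp [mul_assoc, cancel₂ aa]
    · simp [mul_assoc, cancel₂ aa]
    · simp [mul_assoc]
    · simp
    · simp
    · simp [dd]
    · refine Or.inr (Or.inr (Or.inr (Or.inr (Or.inl ?_))))
      rw [← hb]; simp only [mul_assoc, cancel₂ dd]
    · exact Or.inr (Or.inr (Or.inr (Or.inl (by rw [← mul_assoc]; exact hb))))
    · simp [cancel₂ dd]
  induction hs using Subgroup.closure_induction_left with
  | one => exact Or.inl rfl
  | mul_left x hx y _ ih => exact step x hx y ih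
  | inv_mul_cancel x hx y _ ih =>
    have hx' : x⁻¹ = x := by
      rcases hx with hx | hx <;> cases hx
      exacts [hD.inv_eq ha, hD.inv_eq hd]
    rw [hx']
    exact step x hx y ih

omit P in
theorem pair_center {s : G} (hs : s ∈ Subgroup.closure ({a, d} : Set G)) (h1 : Commute s a)
    (h2 : Commute s d) : s = 1 := by
  have aa := hD.sq a ha
  have dd := hD.sq d hd
  rcases pair_cases hD ha hd hnc hs with h | h | h | h | h | h
  · exact h
  · exact absurd (h ▸ h2) hnc
  · exact absurd (h ▸ h1).symm hnc
  · exact absurd (h ▸ h1).symm (hD.not_commute_cj_left ha hnc)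
  · have := (Commute.refl a).mul_left (h ▸ h1)
    rw [cancel₂ aa] at this
    exact absurd this.symm hnc
  · have := (Commute.refl d).mul_left (h ▸ h2)
    rw [cancel₂ dd] at this
    exact absurd this hnc

theorem inf_eq_bot : Subgroup.closure ({a, d} : Set G) ⊓ dSub D a d = ⊥ := by
  rw [eq_bot_iff]
  intro x hx
  exact Subgroup.mem_bot.2 (pair_center hD ha hd hnc hx.1 (dSub_commute hx.2).1 (dSub_commute hx.2).2)

omit P in
/-- An element normalizing the group of order three permutes the inverting members. -/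
theorem conj_inverts {g f : G}
    (hg : g ∈ Subgroup.normalizer ((Subgroup.zpowers (a * d) : Subgroup G) : Set G)) (hf : f * f = 1)
    (h : f * (a * d) * f = d * a) : g * f * g⁻¹ * (a * d) * (g * f * g⁻¹) = d * a := by
  set φ := MulAut.conj g with hφ
  have hi := mul_inv_eq hD ha hd hnc
  have h' : f * (d * a) * f = a * d := by
    rw [← h]; simp only [mul_assoc, cancel₂ hf, hf, mul_one]
  have h1 := (Subgroup.mem_normalizer_iff.1 hg (a * d)).1 (Subgroup.mem_zpowers _)
  change φ f * (a * d) * φ f = d * a
  rcases zpowers_cases hD ha hd hnc h1 with e | e | e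
  · exact absurd ((mul_eq_one_iff_eq_inv.1 (conj_eq_one_iff.1 e)).trans (hD.inv_eq hd)) (ne_pair hD ha hd hnc)
  · have e1 : φ (a * d) = a * d := e
    have e2 : φ (d * a) = d * a := by rw [← hi, map_inv, e1]
    rw [← e1, ← map_mul, ← map_mul, h, e2]
  · have e1 : φ (a * d) = d * a := e
    have e2 : φ (d * a) = a * d := by rw [← hi, map_inv, e1, ← hi, inv_inv]
    rw [← e2, ← map_mul, ← map_mul, h', e1]

omit P in
theorem pair_normalizes {s : G} (hs : s ∈ Subgroup.closure ({a, d} : Set G)) :
    s ∈ Subgroup.normalizer ((Subgroup.zpowers (a * d) : Subgroup G) : Set G) := by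
  refine (Subgroup.closure_le _).2 ?_ hs
  have key : ∀ x ∈ D, x * (a * d) * x = d * a →
      x ∈ Subgroup.normalizer ((Subgroup.zpowers (a * d) : Subgroup G) : Set G) := by
    intro x hx h
    have hm : (Subgroup.zpowers (a * d)).map (MulAut.conj x).toMonoidHom = Subgroup.zpowers (a * d) := by
      rw [MonoidHom.map_zpowers, show (MulAut.conj x).toMonoidHom (a * d) = x * (a * d) * x⁻¹ from rfl,
        hD.inv_eq hx, h, ← mul_inv_eq hD ha hd hnc, Subgroup.zpowers_inv]
    exact Subgroup.mem_normalizer_iff_map_conj_eq.2 hm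
  obtain ⟨i1, i2, -⟩ := inverts_self hD ha hd hnc
  rintro x (rfl | rfl)
  · exact key _ ha i1
  · exact key _ hd i2

omit P in
/-- Every ordered pair of inverting members is reached by the group of the pair. -/
theorem exists_pair_map {b c : G} (hb : b = a ∨ b = d ∨ b = a * d * a) (hc : c = a ∨ c = d ∨ c = a * d * a)
    (hne : b ≠ c) :
    ∃ s ∈ Subgroup.closure ({a, d} : Set G), s * a * s⁻¹ = b ∧ s * d * s⁻¹ = c := by
  have aa := hD.sq a ha
  have dd := hD.sq d hd
  have ia := hD.inv_eq ha
  have id' := hD.inv_eq hd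
  have br := braid' hD ha hd hnc
  have br' : d * (a * d * a) * d = a := by
    rw [← br]; simp only [mul_assoc, cancel₂ dd, dd, mul_one]
  have br'' : a * (d * a * d) * a = d := by
    rw [br]; simp only [mul_assoc, cancel₂ aa, aa, mul_one]
  have ma : a ∈ Subgroup.closure ({a, d} : Set G) := Subgroup.subset_closure (Or.inl rfl)
  have md : d ∈ Subgroup.closure ({a, d} : Set G) := Subgroup.subset_closure (Or.inr rfl)
  rcases hb with hb | hb | hb <;> rcases hc with hc | hc | hc <;> subst b <;> subst c
  · exact absurd rfl hne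
  · exact ⟨1, one_mem _, by group, by group⟩
  · exact ⟨a, ma, by rw [ia, aa, one_mul], by rw [ia]⟩
  · refine ⟨a * d * a, mul_mem (mul_mem ma md) ma, ?_, ?_⟩
    · rw [hD.inv_eq (hD.cj_mem ha hd)]; exact hD.cj_conj_self ha hd hnc
    · rw [hD.inv_eq (hD.cj_mem ha hd), ← br]; exact hD.cj_conj_self hd ha fun h => hnc h.symm
  · exact absurd rfl hne
  · refine ⟨a * d, mul_mem ma md, ?_, ?_⟩
    · rw [mul_inv_rev, ia, id', show a * d * a * (d * a) = a * (d * a * d) * a by group, br'']
    · rw [mul_inv_rev, ia, id', show a * d * d * (d * a) = a * (d * d) * d * a by group, dd, mul_one]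
  · refine ⟨d * a, mul_mem md ma, ?_, ?_⟩
    · rw [mul_inv_rev, ia, id', show d * a * a * (a * d) = d * (a * a) * a * d by group, aa, mul_one, br]
    · rw [mul_inv_rev, ia, id', show d * a * d * (a * d) = d * (a * d * a) * d by group, br']
  · exact ⟨d, md, by rw [id', br], by rw [id', dd, one_mul]⟩
  · exact absurd rfl hne

theorem sup_eq_normalizer :
    Subgroup.closure ({a, d} : Set G) ⊔ dSub D a d =
      Subgroup.normalizer ((Subgroup.zpowers (a * d) : Subgroup G) : Set G) := by
  refine le_antisymm (sup_le (fun s hs => pair_normalizes hD ha hd hnc hs) fun k hk => ?_) fun g hg => ?_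
  · refine Subgroup.mem_normalizer_iff.2 fun h => ?_
    have hc : Commute k (a * d) := (dSub_commute hk).1.mul_right (dSub_commute hk).2
    constructor
    · rintro ⟨i, rfl⟩
      exact ⟨i, by rw [(hc.zpow_right i).eq, mul_inv_cancel_right]⟩
    · rintro ⟨i, hi⟩
      refine ⟨i, ?_⟩
      have : (a * d) ^ i = k * h * k⁻¹ := hi
      show (a * d) ^ i = h
      calc (a * d) ^ i = k⁻¹ * (k * (a * d) ^ i) := by group
        _ = k⁻¹ * ((a * d) ^ i * k) := by rw [(hc.zpow_right i).eq]
        _ = h := by rw [this]; group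
  · obtain ⟨i1, i2, -⟩ := inverts_self hD ha hd hnc
    have hb := inverts_cases hD ha hd hnc P (hD.conj g a ha) (conj_inverts hD ha hd hnc hg (hD.sq a ha) i1)
    have hc := inverts_cases hD ha hd hnc P (hD.conj g d hd) (conj_inverts hD ha hd hnc hg (hD.sq d hd) i2)
    obtain ⟨s, hs, hsa, hsd⟩ := exists_pair_map hD ha hd hnc hb hc
      fun e => ne_pair hD ha hd hnc (mul_left_cancel (mul_right_cancel e))
    have fix : ∀ {e : G}, s * e * s⁻¹ = g * e * g⁻¹ → Commute (s⁻¹ * g) e := by
      intro e h
      show s⁻¹ * g * e = e * (s⁻¹ * g)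
      calc s⁻¹ * g * e = s⁻¹ * (g * e * g⁻¹) * g := by group
        _ = e * (s⁻¹ * g) := by rw [← h]; group
    have := Subgroup.mul_mem_sup hs (P.cent ha hd hnc (fix hsa) (fix hsd))
    rwa [mul_inv_cancel_left] at this

omit P in
theorem pair_equiv : Nonempty (↥(Subgroup.closure ({a, d} : Set G)) ≃* Equiv.Perm (Fin 3)) := by
  classical
  set S := Subgroup.closure ({a, d} : Set G) with hS
  let v : Fin 3 → G := ![a, d, a * d * a]
  have h01 := ne_pair hD ha hd hnc
  have h20 := cj_ne_left hD ha hd hnc
  have h21 := cj_ne_right hD ha hd hnc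
  have hv : Function.Injective v := by
    intro i j h
    fin_cases i <;> fin_cases j <;>
      first
        | rfl
        | exact absurd h h01
        | exact absurd h.symm h01
        | exact absurd h h20
        | exact absurd h.symm h20
        | exact absurd h h21
        | exact absurd h.symm h21
  have hgen : ∀ x ∈ ({a, d} : Set G), ∀ j, ∃ k, v k = x * v j * x⁻¹ := by
    intro x hx j
    rcases hx with hx | hx <;> cases hx
    · rw [hD.inv_eq ha]; fin_cases j
      · exact ⟨0, by simp [v, hD.sq _ ha]⟩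
      · exact ⟨2, by simp [v]⟩
      · exact ⟨1, by simp [v, mul_assoc, cancel₂ (hD.sq _ ha), hD.sq _ ha]⟩
    · rw [hD.inv_eq hd]; fin_cases j
      · exact ⟨2, by simp [v, braid' hD ha hd hnc]⟩
      · exact ⟨1, by simp [v, hD.sq _ hd]⟩
      · exact ⟨0, by
          show a = d * (a * d * a) * d
          rw [← braid' hD ha hd hnc]; simp [mul_assoc, cancel₂ (hD.sq _ hd), hD.sq _ hd]⟩
  have hsix : ∀ s : G, s ∈ S → ∀ i, ∃ j, v j = s * v i * s⁻¹ := by
    intro s hs
    induction hs using Subgroup.closure_induction_left with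
    | one => exact fun i => ⟨i, by group⟩
    | mul_left x hx y _ ih =>
      intro i
      obtain ⟨j, hj⟩ := ih i
      obtain ⟨k, hk⟩ := hgen x hx j
      exact ⟨k, by rw [hk, hj]; group⟩
    | inv_mul_cancel x hx y _ ih =>
      intro i
      obtain ⟨j, hj⟩ := ih i
      obtain ⟨k, hk⟩ := hgen x hx j
      have hx' : x⁻¹ = x := by
        rcases hx with hx | hx <;> cases hx
        exacts [hD.inv_eq ha, hD.inv_eq hd]
      exact ⟨k, by rw [hk, hj, hx', mul_inv_rev, hx']; group⟩
  choose σ hσ using fun (s : S) => hsix s s.2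
  let f : S →* Function.End (Fin 3) :=
    { toFun := σ
      map_one' := funext fun i => hv (by rw [hσ]; show (1 : G) * v i * 1⁻¹ = v i; group)
      map_mul' := fun s t => funext fun i => hv (by
        show v (σ (s * t) i) = v (σ s (σ t i))
        rw [hσ, hσ, hσ]; push_cast; group) }
  let φ : S →* Equiv.Perm (Fin 3) :=
    { toFun := fun s => ⟨σ s, σ s⁻¹,
        fun i => hv (by rw [hσ, hσ]; push_cast; group),
        fun i => hv (by rw [hσ, hσ]; push_cast; group)⟩
      map_one' := Equiv.ext fun i => congrFun f.map_one i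
      map_mul' := fun s t => Equiv.ext fun i => congrFun (f.map_mul s t) i }
  refine ⟨MulEquiv.ofBijective φ ⟨(injective_iff_map_eq_one φ).2 fun s hs => Subtype.ext ?_, fun π => ?_⟩⟩
  · have h : ∀ i, v i = s * v i * (s : G)⁻¹ := fun i => by
      rw [← hσ s i, show σ s i = i from congrArg (fun p : Equiv.Perm (Fin 3) => p i) hs]
    exact pair_center hD ha hd hnc s.2 (mul_inv_eq_iff_eq_mul.1 (h 0).symm)
      (mul_inv_eq_iff_eq_mul.1 (h 1).symm)
  · have hin : ∀ i, v i = a ∨ v i = d ∨ v i = a * d * a := fun i => by fin_cases i <;> simp [v]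
    obtain ⟨s, hs, hsa, hsd⟩ := exists_pair_map hD ha hd hnc (hin (π 0)) (hin (π 1))
      fun e => absurd (π.injective (hv e)) (by decide)
    refine ⟨⟨s, hs⟩, ?_⟩
    have h0 : σ ⟨s, hs⟩ 0 = π 0 := hv ((hσ _ 0).trans hsa)
    have h1 : σ ⟨s, hs⟩ 1 = π 1 := hv ((hσ _ 1).trans hsd)
    exact (show ∀ p q : Equiv.Perm (Fin 3), p 0 = q 0 → p 1 = q 1 → p = q by decide) _ π h0 h1

end Pair

end CfsgLib.FischerPair
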