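import Cfsg.Agent.Lib.FischerPair.Basic
import Cfsg.Agent.Lib.ThreeTransp.M23Model

/-!
# The recursion from the links to the group

The properties of common neighbours of non-commuting pairs pass from the quotients of the groups of the links to
the group, the width growing by one.
-/

set_option autoImplicit false

namespace CfsgLib.FischerPair

open CfsgLib.ThreeTransp CfsgLib.SporMisc CfsgLib.ThreeTransp.Factor
open CfsgLib.M23 (Q E pj pj_mem)

variable {G : Type*} [Group G] [Finite G] {D : Set G}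

/-- The hypotheses on the links for the recursion. -/
structure LinkHyp (D : Set G) (n : ℕ) : Prop where
  tt : IsTT D
  ttc : ∀ x ∈ D, TTC (linkIn D x)
  cent : ∀ x ∈ D, Subgroup.centralizer ({x} : Set G) = linkSub D x
  ker : ∀ x ∈ D, ∀ k : ↥(linkSub D x), (k : Q D x) = 1 → (k : G) = 1 ∨ (k : G) = x
  nonempty : ∀ {a d : G}, a ∈ D → d ∈ D → ¬ Commute a d → (common D a d).Nonempty
  data : ∀ x ∈ D, PairData (E D x) n

namespace LinkHyp

variable {n : ℕ} (H : LinkHyp D n)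
include H

theorem inj {x e f : G} (hx : x ∈ D) (he : e ∈ link D x) (hf : f ∈ link D x) (h : pj he = pj hf) : e = f :=
  congrArg Subtype.val (q_inj (H.ttc x hx) (show (⟨e, _⟩ : ↥(linkSub D x)) ∈ linkIn D x from he)
    (show (⟨f, _⟩ : ↥(linkSub D x)) ∈ linkIn D x from hf) h)

theorem comm {x e f : G} (hx : x ∈ D) (he : e ∈ link D x) (hf : f ∈ link D x) :
    Commute (pj he) (pj hf) ↔ Commute e f :=
  (q_commute (H.ttc x hx) (show (⟨e, _⟩ : ↥(linkSub D x)) ∈ linkIn D x from he)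
    (show (⟨f, _⟩ : ↥(linkSub D x)) ∈ linkIn D x from hf)).trans commute_coe_iff.symm

theorem mem_link_iff {x e f : G} (hx : x ∈ D) (he : e ∈ link D x) (hf : f ∈ link D x) :
    pj hf ∈ link (E D x) (pj he) ↔ f ∈ link D e := by
  constructor
  · rintro ⟨-, h2, h3⟩
    exact ⟨hf.1, fun h => h2 (by subst h; rfl), (H.comm hx he hf).1 h3⟩
  · rintro ⟨-, h2, h3⟩
    exact ⟨pj_mem hf, fun h => h2 (H.inj hx hf he h), (H.comm hx he hf).2 h3⟩

theorem mem_common_iff {x a d f : G} (hx : x ∈ D) (ha : a ∈ link D x) (hd : d ∈ link D x) (hf : f ∈ link D x) :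
    pj hf ∈ common (E D x) (pj ha) (pj hd) ↔ f ∈ common D a d :=
  and_congr (H.mem_link_iff hx ha hf) (H.mem_link_iff hx hd hf)

/-- Below a common neighbour. -/
theorem mem_links {a d x : G} (ha : a ∈ D) (hd : d ∈ D) (hx : x ∈ common D a d) :
    a ∈ link D x ∧ d ∈ link D x :=
  ⟨⟨ha, hx.1.2.1.symm, hx.1.2.2.symm⟩, hd, hx.2.2.1.symm, hx.2.2.2.symm⟩

theorem below {a d x : G} (hnc : ¬ Commute a d) (hx : x ∈ D) (ha : a ∈ link D x) (hd : d ∈ link D x) :
    pj ha ∈ E D x ∧ pj hd ∈ E D x ∧ ¬ Commute (pj ha) (pj hd) :=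
  ⟨pj_mem ha, pj_mem hd, fun h => hnc ((H.comm hx ha hd).1 h)⟩

/-- The group of the common neighbours in the quotient is covered by that of the common neighbours in the link. -/
theorem lift {a d x : G} (hx : x ∈ D) (ha : a ∈ link D x) (hd : d ∈ link D x) {q : Q D x}
    (hq : q ∈ dSub (E D x) (pj ha) (pj hd)) :
    ∃ k : ↥(linkSub D x), (k : Q D x) = q ∧ (k : G) ∈ dSub D a d := by
  have hle : dSub (E D x) (pj ha) (pj hd) ≤
      ((dSub D a d).subgroupOf (linkSub D x)).map (QuotientGroup.mk' _) := by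
    rw [dSub, Subgroup.closure_le]
    intro q hq
    obtain ⟨f, lf, rfl⟩ := CfsgLib.M23.Setup.pj_surj hq.1.1
    exact ⟨⟨f, Subgroup.subset_closure lf⟩, Subgroup.subset_closure ((H.mem_common_iff hx ha hd lf).1 hq), rfl⟩
  obtain ⟨k, hk, rfl⟩ := hle hq
  exact ⟨k, rfl, hk⟩

/-- The common neighbours form one orbit of the group they generate. -/
theorem trans_of {a d x y : G} (ha : a ∈ D) (hd : d ∈ D) (hnc : ¬ Commute a d)
    (hx : x ∈ common D a d) (hy : y ∈ common D a d) : ∃ k ∈ dSub D a d, k * x * k⁻¹ = y := by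
  by_cases hxy : x = y
  · exact ⟨1, one_mem _, by rw [hxy]; group⟩
  by_cases hc : Commute x y
  swap
  · exact dSub_conj_of_not_commute H.tt hx hy hc
  obtain ⟨la, ld⟩ := H.mem_links ha hd hx
  have ly : y ∈ link D x := ⟨hy.1.1, fun h => hxy h.symm, hc⟩
  obtain ⟨h1, h2, h3⟩ := H.below hnc hx.1.1 la ld
  obtain ⟨q, hq1, hq2⟩ := (H.data x hx.1.1).valency h1 h2 h3 ((H.mem_common_iff hx.1.1 la ld ly).2 hy)
  obtain ⟨w, lw, rfl⟩ := CfsgLib.M23.Setup.pj_surj hq2.1
  have hw : w ∈ common D a d := (H.mem_common_iff hx.1.1 la ld lw).1 hq1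
  have hwy := (H.mem_link_iff hx.1.1 ly lw).1 hq2
  have lxw : x ∈ link D w := ⟨hx.1.1, lw.2.1.symm, lw.2.2.symm⟩
  have lyw : y ∈ link D w := ⟨hy.1.1, hwy.2.1.symm, hwy.2.2.symm⟩
  obtain ⟨la', ld'⟩ := H.mem_links ha hd hw
  obtain ⟨g1, g2, g3⟩ := H.below hnc hw.1.1 la' ld'
  obtain ⟨r, hr, hrxy⟩ := (H.data w hw.1.1).trans g1 g2 g3
    ((H.mem_common_iff hw.1.1 la' ld' lxw).2 hx) ((H.mem_common_iff hw.1.1 la' ld' lyw).2 hy)
  obtain ⟨k, rfl, hk⟩ := H.lift hw.1.1 la' ld' hr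
  have lk : (k : G) * x * (k : G)⁻¹ ∈ link D w := by
    have := link_conj H.tt (k : G) lxw
    rwa [(linkSub_commute k.2).eq, mul_inv_cancel_right] at this
  exact ⟨k, hk, H.inj hw.1.1 lk lyw hrxy⟩

theorem data_above : PairData D (n + 1) where
  nonempty := H.nonempty
  valency := fun {a d x} ha hd hnc hx => by
    obtain ⟨la, ld⟩ := H.mem_links ha hd hx
    obtain ⟨h1, h2, h3⟩ := H.below hnc hx.1.1 la ld
    obtain ⟨q, hq⟩ := (H.data x hx.1.1).nonempty h1 h2 h3
    obtain ⟨f, lf, rfl⟩ := CfsgLib.M23.Setup.pj_surj hq.1.1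
    exact ⟨f, (H.mem_common_iff hx.1.1 la ld lf).1 hq, lf⟩
  only := fun {a d f} ha hd hnc hf haf hall => by
    obtain ⟨x, hx⟩ := H.nonempty ha hd hnc
    obtain ⟨la, ld⟩ := H.mem_links ha hd hx
    have lf : f ∈ link D x := ⟨hf, fun h => haf (h ▸ hx.1.2.2), (hall x hx).symm⟩
    obtain ⟨h1, h2, h3⟩ := H.below hnc hx.1.1 la ld
    rcases (H.data x hx.1.1).only h1 h2 h3 (pj_mem lf) (fun h => haf ((H.comm hx.1.1 la lf).1 h)) (fun q hq => by
      obtain ⟨e, le, rfl⟩ := CfsgLib.M23.Setup.pj_surj hq.1.1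
      exact (H.comm hx.1.1 lf le).2 (hall e ((H.mem_common_iff hx.1.1 la ld le).1 hq))) with h | h
    · exact Or.inl (H.inj hx.1.1 lf ld h)
    · refine Or.inr ?_
      have lada : a * d * a ∈ link D x := by
        have := link_conj H.tt a ld
        rwa [la.2.2.symm.eq, mul_inv_cancel_right, H.tt.inv_eq ha] at this
      exact H.inj hx.1.1 lf lada h
  cent := fun {a d g} ha hd hnc hga hgd => by
    obtain ⟨x, hx⟩ := H.nonempty ha hd hnc
    have hy := dSub_conj_mem H.tt hga hgd hx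
    obtain ⟨k, hk, hkx⟩ := trans_of H ha hd hnc hx hy
    have hh : Commute (k⁻¹ * g) x := by
      show k⁻¹ * g * x = x * (k⁻¹ * g)
      calc k⁻¹ * g * x = k⁻¹ * (g * x * g⁻¹) * g := by group
        _ = x * (k⁻¹ * g) := by rw [← hkx]; group
    have hha : Commute (k⁻¹ * g) a := (dSub_commute hk).1.inv_left.mul_left hga
    have hhd : Commute (k⁻¹ * g) d := (dSub_commute hk).2.inv_left.mul_left hgd
    obtain ⟨la, ld⟩ := H.mem_links ha hd hx
    have hmem : k⁻¹ * g ∈ linkSub D x := by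
      rw [← H.cent x hx.1.1, Subgroup.mem_centralizer_singleton_iff]
      exact hh.eq
    obtain ⟨h1, h2, h3⟩ := H.below hnc hx.1.1 la ld
    let h₀ : ↥(linkSub D x) := ⟨k⁻¹ * g, hmem⟩
    obtain ⟨m, hmq, hm⟩ := H.lift hx.1.1 la ld ((H.data x hx.1.1).cent h1 h2 h3
      ((show Commute h₀ ⟨a, Subgroup.subset_closure la⟩ from Subtype.ext hha).map (QuotientGroup.mk' _))
      ((show Commute h₀ ⟨d, Subgroup.subset_closure ld⟩ from Subtype.ext hhd).map (QuotientGroup.mk' _)))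
    have hker : ((m⁻¹ * h₀ : ↥(linkSub D x)) : Q D x) = 1 := by
      rw [QuotientGroup.mk_mul, QuotientGroup.mk_inv, hmq]
      exact inv_mul_cancel _
    have hxm : (m : G)⁻¹ * (k⁻¹ * g) ∈ dSub D a d := by
      rcases H.ker x hx.1.1 _ hker with h | h
      · rw [show (m : G)⁻¹ * (k⁻¹ * g) = 1 from h]; exact one_mem _
      · rw [show (m : G)⁻¹ * (k⁻¹ * g) = x from h]; exact Subgroup.subset_closure hx
    have := mul_mem hk (mul_mem hm hxm)
    rwa [mul_inv_cancel_left, mul_inv_cancel_left] at this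
  trans := fun ha hd hnc hx hy => trans_of H ha hd hnc hx hy
  center := fun {a d z} ha hd hnc hza hzd hall => by
    have key : ∀ x ∈ common D a d, z = 1 ∨ z = x := by
      intro x hx
      obtain ⟨la, ld⟩ := H.mem_links ha hd hx
      have hmem : z ∈ linkSub D x := by
        rw [← H.cent x hx.1.1, Subgroup.mem_centralizer_singleton_iff]
        exact (hall x hx).eq
      obtain ⟨h1, h2, h3⟩ := H.below hnc hx.1.1 la ld
      let z₀ : ↥(linkSub D x) := ⟨z, hmem⟩
      refine H.ker x hx.1.1 z₀ ((H.data x hx.1.1).center h1 h2 h3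
        ((show Commute z₀ ⟨a, Subgroup.subset_closure la⟩ from Subtype.ext hza).map (QuotientGroup.mk' _))
        ((show Commute z₀ ⟨d, Subgroup.subset_closure ld⟩ from Subtype.ext hzd).map (QuotientGroup.mk' _))
        fun q hq => ?_)
      obtain ⟨f, lf, rfl⟩ := CfsgLib.M23.Setup.pj_surj hq.1.1
      exact (show Commute z₀ ⟨f, Subgroup.subset_closure lf⟩ from
        Subtype.ext (hall f ((H.mem_common_iff hx.1.1 la ld lf).1 hq))).map (QuotientGroup.mk' _)
    obtain ⟨x, hx⟩ := H.nonempty ha hd hnc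
    obtain ⟨la, ld⟩ := H.mem_links ha hd hx
    obtain ⟨h1, h2, h3⟩ := H.below hnc hx.1.1 la ld
    obtain ⟨q, hq⟩ := (H.data x hx.1.1).nonempty h1 h2 h3
    obtain ⟨w, lw, rfl⟩ := CfsgLib.M23.Setup.pj_surj hq.1.1
    rcases key x hx with h | h
    · exact h
    · rcases key w ((H.mem_common_iff hx.1.1 la ld lw).1 hq) with h' | h'
      · exact h'
      · exact absurd (h'.symm.trans h) lw.2.1
  width_le := fun {a d E'} ha hd hnc hE hc => by
    by_cases h0 : E' = ∅
    · simp [h0]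
    obtain ⟨x, hxE⟩ := Set.nonempty_iff_ne_empty.2 h0
    have hx := hE hxE
    obtain ⟨la, ld⟩ := H.mem_links ha hd hx
    obtain ⟨h1, h2, h3⟩ := H.below hnc hx.1.1 la ld
    have hl : ∀ e ∈ E' \ {x}, e ∈ link D x := fun e he => ⟨(hE he.1).1.1, he.2, hc x hxE e he.1⟩
    let T : Set (Q D x) := {q | ∃ (e : G) (le : e ∈ link D x), e ∈ E' ∧ pj le = q}
    have hcard : (E' \ {x}).ncard = T.ncard := by
      refine Set.ncard_congr (fun e he => pj (hl e he)) (fun e he => ⟨e, hl e he, he.1, rfl⟩)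
        (fun e f he hf h => H.inj hx.1.1 _ _ h) ?_
      rintro q ⟨e, le, he, rfl⟩
      exact ⟨e, ⟨he, le.2.1⟩, rfl⟩
    have hT : T.ncard ≤ n := by
      refine (H.data x hx.1.1).width_le h1 h2 h3 ?_ ?_
      · rintro q ⟨e, le, he, rfl⟩
        exact (H.mem_common_iff hx.1.1 la ld le).2 (hE he)
      · rintro q ⟨e, le, he, rfl⟩ r ⟨f, lf, hf, rfl⟩
        exact (H.comm hx.1.1 le lf).2 (hc e he f hf)
    have := Set.ncard_sdiff_singleton_add_one hxE
    omega
  width_ge := fun {a d} ha hd hnc => by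
    obtain ⟨x, hx⟩ := H.nonempty ha hd hnc
    obtain ⟨la, ld⟩ := H.mem_links ha hd hx
    obtain ⟨h1, h2, h3⟩ := H.below hnc hx.1.1 la ld
    obtain ⟨T, hT, hTc, hTn⟩ := (H.data x hx.1.1).width_ge h1 h2 h3
    let E' : Set G := {e | ∃ le : e ∈ link D x, pj le ∈ T}
    have hEsub : E' ⊆ common D a d := fun e ⟨le, he⟩ => (H.mem_common_iff hx.1.1 la ld le).1 (hT he)
    have hcard : E'.ncard = T.ncard := by
      refine Set.ncard_congr (fun e he => pj he.1) (fun e he => he.2) (fun e f he hf h => H.inj hx.1.1 _ _ h) ?_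
      intro q hq
      obtain ⟨e, le, rfl⟩ := CfsgLib.M23.Setup.pj_surj (hT hq).1.1
      exact ⟨e, ⟨le, hq⟩, rfl⟩
    refine ⟨insert x E', Set.insert_subset hx hEsub, ?_, ?_⟩
    · rintro e (rfl | ⟨le, he⟩) f (rfl | ⟨lf, hf⟩)
      · exact Commute.refl _
      · exact lf.2.2
      · exact le.2.2.symm
      · exact (H.comm hx.1.1 le lf).1 (hTc _ he _ hf)
    · rw [Set.ncard_insert_of_notMem (fun (h : x ∈ E') => h.1.2.1 rfl) (Set.toFinite _), hcard, hTn]

end LinkHyp

end CfsgLib.FischerPair
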