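import Cfsg.Agent.Lib.FischerPair.M22
import Cfsg.Agent.Lib.FischerPair.Step
import Cfsg.Agent.Lib.ThreeTransp.M23Centralizer

/-!
# Groups of type `M(23)`: common neighbours of a non-commuting pair
-/

set_option autoImplicit false

namespace CfsgLib.M23

open CfsgLib.ThreeTransp CfsgLib.SporMisc CfsgLib.ThreeTransp.Factor CfsgLib.FischerPair

variable {G : Type*} [Group G] [Finite G] {D : Set G}

theorem linkHyp (S : Setup D) : LinkHyp D 6 where
  tt := S.tt
  ttc := fun _ hx => S.link_ttc hx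
  cent := fun _ hx => centralizer_eq S hx
  ker := fun _ hx k h => pj_eq_one_cases S hx k.2 h
  nonempty := fun ha hd hnc => common_nonempty S ha hd hnc
  data := fun x hx => by
    have T := S.link_setup hx
    obtain ⟨F, _, _, hF, hM⟩ := T.exists_models
    exact M22.pairData T hF hM

/-- The properties of the common neighbours in type `M(23)`. -/
theorem pairData (S : Setup D) : PairData D 7 := (linkHyp S).data_above

/-- The group is transitive on non-commuting ordered pairs. -/
theorem pair_trans (S : Setup D) {a d b c : G} (ha : a ∈ D) (hd : d ∈ D) (hnc : ¬ Commute a d) (hb : b ∈ D)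
    (hc : c ∈ D) (hbc : ¬ Commute b c) : ∃ g : G, g * a * g⁻¹ = b ∧ g * d * g⁻¹ = c := by
  obtain ⟨g₁, hg₁⟩ := S.cls ha hb
  have hn : ¬ Commute b (g₁ * d * g₁⁻¹) := fun h => hnc ((Commute.conj_iff g₁).1 (hg₁.symm ▸ h))
  obtain ⟨h, hh, hhc⟩ := trans_nonlink S hb (S.tt.conj g₁ d hd) hc hn hbc
  refine ⟨h * g₁, ?_, by rw [← hhc]; group⟩
  rw [show h * g₁ * a * (h * g₁)⁻¹ = h * (g₁ * a * g₁⁻¹) * h⁻¹ by group, hg₁, hh.eq, mul_inv_cancel_right]

end CfsgLib.M23
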