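import Cfsg.Agent.Lib.FischerPair.RefSeven
import Cfsg.Agent.Lib.SmallGroups.Omega7Three.Group

/-!
# Involutions of the reflection group in dimension seven centralised by an element of order seven

With minus the identity in the group, such an involution is a reflection of the given norm modulo the centre.
-/

set_option autoImplicit false

namespace CfsgLib.FischerPair.RefSeven

open Cfsg CfsgLib.Classical CfsgLib.SporMisc

local notation "V7" => Fin 7 → ZMod 3

/-- An endomorphism of order dividing seven of a space of dimension at most five is trivial. -/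
theorem seven_trivial {W : Submodule (ZMod 3) V7} (hk : Module.finrank (ZMod 3) W ≤ 5)
    (g : Module.End (ZMod 3) W) (h : g ^ 7 = 1) : g = 1 := by
  classical
  let T := LinearMap.toMatrixAlgEquiv (Module.finBasis (ZMod 3) W)
  have hM : T g ^ 7 = 1 := by rw [← map_pow, h, map_one]
  let U : GL (Fin (Module.finrank (ZMod 3) W)) (ZMod 3) :=
    ⟨T g, T g ^ 6, by rw [← pow_succ', hM], by rw [← pow_succ, hM]⟩
  have hU : U ^ 7 = 1 := Units.ext (by rw [Units.val_pow_eq_pow_val]; exact hM)
  have h1 : orderOf U ∣ Nat.gcd 7 (Nat.card (GL (Fin (Module.finrank (ZMod 3) W)) (ZMod 3))) :=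
    Nat.dvd_gcd (orderOf_dvd_of_pow_eq_one hU) (orderOf_dvd_natCard U)
  have h2 : Nat.gcd 7 (Nat.card (GL (Fin (Module.finrank (ZMod 3) W)) (ZMod 3))) = 1 := by
    rw [Matrix.card_GL_field]
    generalize Module.finrank (ZMod 3) W = n at hk ⊢
    interval_cases n <;> simp [Fin.prod_univ_succ, ZMod.card]
  rw [h2, Nat.dvd_one, orderOf_eq_one_iff] at h1
  exact T.injective (by rw [map_one]; exact congrArg Units.val h1)

variable {Q : QuadraticForm (ZMod 3) V7}

theorem polar_isoApply (g : isometryGroup (ZMod 3) ⇑Q) (x y : V7) :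
    QuadraticMap.polar Q (isoApply g x) (isoApply g y) = QuadraticMap.polar Q x y := by
  simp only [QuadraticMap.polar, isoApply, ← Matrix.mulVec_add]
  rw [show Q _ = Q (x + y) from isoApply_Q g (x + y), show Q (isoApply g x) = Q x from isoApply_Q g x,
    show Q (isoApply g y) = Q y from isoApply_Q g y]

/-- The determinant of an isometry. -/
abbrev isoDet (g : isometryGroup (ZMod 3) ⇑Q) : ZMod 3 :=
  (((g : GL (Fin 7) (ZMod 3)) : Matrix (Fin 7) (Fin 7) (ZMod 3))).det

theorem isoDet_mul (g h : isometryGroup (ZMod 3) ⇑Q) : isoDet (g * h) = isoDet g * isoDet h := by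
  simp [isoDet, Matrix.det_mul]

theorem isoDet_one : isoDet (1 : isometryGroup (ZMod 3) ⇑Q) = 1 := by simp [isoDet]

theorem isoDet_reflect {v : V7} (hv : Q v ≠ 0) : isoDet (reflect Q v hv) = -1 := by
  rw [isoDet, reflect_coe, det_reflectionMatrix Q hv]

theorem isoDet_neg {ε : isometryGroup (ZMod 3) ⇑Q} (hε : ∀ x, isoApply ε x = -x) : isoDet ε = -1 := by
  have h : ((ε : GL (Fin 7) (ZMod 3)) : Matrix (Fin 7) (Fin 7) (ZMod 3)) = -1 :=
    Matrix.ext_of_mulVec_single fun i => by rw [Matrix.neg_mulVec, Matrix.one_mulVec]; exact hε _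
  rw [isoDet, h, Matrix.det_neg, Matrix.det_one, Fintype.card_fin]
  decide

variable {c : ZMod 3} (hQ : (QuadraticMap.polarBilin Q).Nondegenerate) (hc : c ≠ 0)
variable (hdet : polarGramDet (⇑Q) = -c)
include hQ hc hdet

set_option quotPrecheck false in
local notation "R7" => ↥(reflectionSubgroup (⇑Q) c)

/-- A vector orthogonal to all vectors of norm `c` is zero. -/
theorem perp_all {y : V7} (h : ∀ v, Q v = c → QuadraticMap.polar Q y v = 0) : y = 0 := by
  obtain ⟨ε, hεW, hε⟩ := exists_neg Q hQ hc hdet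
  have hfix : ∀ g ∈ reflectionSubgroup (⇑Q) c, isoApply g y = y := by
    intro g hg
    induction hg using Subgroup.closure_induction with
    | mem r hr =>
      obtain ⟨v, hv, hr⟩ := hr
      have hr' : r = reflect Q v (RefThree.nz Q hc hv) :=
        Subtype.ext (Units.ext (hr.trans (reflect_coe Q v _).symm))
      rw [hr', reflect_apply, h v hv, mul_zero, zero_smul, sub_zero]
    | one => exact isoApply_one _
    | mul p q _ _ i1 i2 => rw [isoApply_mul, i2, i1]
    | inv p _ i1 =>
      conv_lhs => rw [← i1]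
      exact isoApply_inv_apply p y
  have h1 := hfix ε hεW
  rw [hε, neg_eq_iff_add_eq_zero, ← two_smul (ZMod 3)] at h1
  exact (smul_eq_zero.1 h1).resolve_left (by decide)

/-- The centre consists of plus and minus the identity, and minus the identity is no square. -/
theorem center_cases : ∃ ε : R7, (∀ x, isoApply (ε : isometryGroup (ZMod 3) ⇑Q) x = -x) ∧
    ε ∈ Subgroup.center R7 ∧ ∀ z ∈ Subgroup.center R7, z = 1 ∨ z = ε := by
  classical
  obtain ⟨ε, hεW, hε⟩ := exists_neg Q hQ hc hdet
  have hεc : ∀ h, Commute ε h := fun h => iso_ext fun x => by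
    rw [isoApply_mul, isoApply_mul, hε, hε]
    exact (Matrix.mulVec_neg _ _).symm
  refine ⟨⟨ε, hεW⟩, hε, Subgroup.mem_center_iff.2 fun y => Subtype.ext (hεc y.1).eq.symm, ?_⟩
  intro z hz
  have hsign : ∀ v, Q v = c → isoApply (z : isometryGroup (ZMod 3) ⇑Q) v = v ∨
      isoApply (z : isometryGroup (ZMod 3) ⇑Q) v = -v := by
    intro v hv
    have hv' : Q (isoApply (z : isometryGroup (ZMod 3) ⇑Q) v) = c := (isoApply_Q _ v).trans hv
    refine RefThree.rf_inj Q hc hv hv' (Subtype.ext ?_)
    have := congrArg Subtype.val (Subgroup.mem_center_iff.1 hz (RefThree.rf Q hc hv))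
    show reflect Q v (RefThree.nz Q hc hv) = reflect Q _ (RefThree.nz Q hc hv')
    rw [← reflect_conj Q (z : isometryGroup (ZMod 3) ⇑Q) v (RefThree.nz Q hc hv)]
    exact eq_mul_inv_of_mul_eq this
  obtain ⟨v₀, -, hv₀⟩ := RefThree.exists_perp_value Q hQ (![] : Fin 0 → V7) (fun i => i.elim0)
    (fun i => i.elim0) (by norm_num) hc
  have main : ∀ g : isometryGroup (ZMod 3) ⇑Q, isoApply g v₀ = v₀ →
      (∀ v, Q v = c → isoApply g v = v ∨ isoApply g v = -v) → g = 1 := by
    intro g h0 hs
    have step : ∀ u v, Q v = c → isoApply g u = u → QuadraticMap.polar Q u v ≠ 0 → isoApply g v = v := by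
      intro u v hv hu huv
      refine (hs v hv).resolve_right fun e => huv ?_
      have h1 := polar_isoApply g u v
      rw [hu, e, QuadraticMap.polar_neg_right, neg_eq_iff_add_eq_zero, ← two_mul] at h1
      exact (mul_eq_zero.1 h1).resolve_left (by decide)
    have hall : ∀ v, Q v = c → isoApply g v = v := by
      intro v hv
      by_cases h : QuadraticMap.polar Q v₀ v = 0
      · obtain ⟨w, hw, hwu, hwv⟩ := RefThree.exists_noncomm_both Q hQ hc (by norm_num) hv hv₀ h
        exact step w v hv (step v₀ w hw h0 fun e => hwv ((qf_polar_comm Q _ _).trans e)) hwu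
      · exact step v₀ v hv h0 h
    refine iso_ext fun x => ?_
    rw [isoApply_one]
    refine sub_eq_zero.1 (perp_all hQ hc hdet fun v hv => ?_)
    rw [QuadraticMap.polar_sub_left, sub_eq_zero]
    conv_lhs => rw [← hall v hv]
    exact polar_isoApply g x v
  rcases hsign v₀ hv₀ with h | h
  · exact Or.inl (Subtype.ext (main z h hsign))
  · refine Or.inr (Subtype.ext ?_)
    have h1 := main (ε * z) (by rw [isoApply_mul, h, hε, neg_neg]) fun v hv => by
      rw [isoApply_mul, hε]
      rcases hsign v hv with e | e <;> simp [e]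
    have h2 : ε * ε = 1 := iso_ext fun x => by rw [isoApply_mul, hε, hε, neg_neg, isoApply_one]
    show (z : isometryGroup (ZMod 3) ⇑Q) = ε
    exact (mul_left_cancel (a := ε) (by rw [h1, h2]))

omit hdet in
/-- A reflection in the group has norm `c`. -/
theorem norm_of_mem {w : V7} (hw : Q w ≠ 0) (h : reflect Q w hw ∈ reflectionSubgroup (⇑Q) c) : Q w = c := by
  by_contra hne
  have hd : Q w = -c := ((RefThree.zmod_three_cases c hc _ hw)).resolve_left hne
  have hnc : -c ≠ 0 := neg_ne_zero.2 hc
  have hidx := RefThree.index_two Q hQ hc (by norm_num : 5 ≤ 7)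
  obtain ⟨N, hN⟩ : ∃ N, N = reflectionSubgroup (⇑Q) c := ⟨_, rfl⟩
  rw [← hN] at h hidx
  have hgenc : ∀ v (hv : Q v = c), reflect Q v (RefThree.nz Q hc hv) ∈ N := fun v hv =>
    hN ▸ Subgroup.subset_closure ⟨v, hv, reflect_coe Q v _⟩
  have hall : ∀ v (hv : Q v = -c), reflect Q v (RefThree.nz Q hnc hv) ∈ N := by
    intro v hv
    have := RefThree.const_of_orth Q hQ hnc (by norm_num)
      (fun p hp => (reflect Q p (RefThree.nz Q hnc hp) ∈ N : Prop)) (fun p q hp hq hpq => propext ?_) hd hv
    · exact (eq_iff_iff.1 this).1 h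
    · have h1 : reflect Q p (RefThree.nz Q hnc hp) * reflect Q q (RefThree.nz Q hnc hq) ∈ N := by
        rw [RefThree.reflect_pair Q hnc hp hq hpq]
        exact mul_mem (hgenc _ ((RefThree.sum_diff Q hp hq hpq).1.trans (neg_neg c)))
          (hgenc _ ((RefThree.sum_diff Q hp hq hpq).2.trans (neg_neg c)))
      exact ⟨fun hp' => (Subgroup.mul_mem_cancel_left N hp').1 h1,
        fun hq' => (Subgroup.mul_mem_cancel_right N hq').1 h1⟩
  have htop : N = ⊤ := by
    rw [eq_top_iff, ← isometryGroup_closure_reflect Q (polarNondeg_of_nondegenerate hQ) (.inl (by simp)),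
      Subgroup.closure_le]
    rintro r ⟨v, hv, hr⟩
    have hr' : r = reflect Q v hv := Subtype.ext (Units.ext (hr.trans (reflect_coe Q v _).symm))
    subst hr'
    rcases RefThree.zmod_three_cases c hc _ hv with e | e
    · exact hgenc v e
    · exact hall v e
  rw [htop, Subgroup.index_top] at hidx
  exact absurd hidx (by norm_num)

/-- The order of the central quotient is divisible by seven. -/
theorem seven_dvd : 7 ∣ Nat.card (R7 ⧸ Subgroup.center R7) := by
  classical
  obtain ⟨E⟩ := exists_iso Q hQ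
  obtain ⟨φ, -⟩ := CfsgLib.SmallGroups.Omega7Three.exists_model
  have hI : 7 ∣ Nat.card (isometryGroup (ZMod 3) ⇑Q) := by
    rw [Nat.card_congr (E.trans φ).toEquiv, CfsgLib.SmallGroups.Omega7Three.card_O7]
    norm_num
  rw [← Subgroup.card_mul_index (reflectionSubgroup (⇑Q) c), RefThree.index_two Q hQ hc (by norm_num),
    Subgroup.card_eq_card_quotient_mul_card_subgroup (Subgroup.center R7)] at hI
  obtain ⟨ε, -, -, hZ⟩ := center_cases hQ hc hdet
  have h2 : Nat.card (Subgroup.center R7) ≤ 2 := by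
    have hsub : (Subgroup.center R7 : Set R7) ⊆ ↑({1, ε} : Finset R7) := fun z hz => by
      simpa using hZ z hz
    have := Set.ncard_le_ncard hsub (Finset.finite_toSet _)
    rw [Set.ncard_coe_finset] at this
    exact le_trans (le_of_eq (Nat.card_coe_set_eq _)) (this.trans Finset.card_le_two)
  have h7 : Nat.Prime 7 := by norm_num
  rcases (h7.dvd_mul).1 hI with h | h
  · rcases (h7.dvd_mul).1 h with h | h
    · exact h
    · have := Nat.le_of_dvd (Nat.card_pos) h
      omega
  · norm_num at h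

omit hdet hQ in
theorem isoDet_rf {v : V7} (hv : Q v = c) :
    isoDet (RefThree.rf Q hc hv : isometryGroup (ZMod 3) ⇑Q) = -1 := isoDet_reflect (RefThree.nz Q hc hv)

/-- Reflections are separated by the central quotient. -/
theorem mk_rf_inj {v w : V7} (hv : Q v = c) (hw : Q w = c)
    (h : (RefThree.rf Q hc hv : R7 ⧸ Subgroup.center R7) = RefThree.rf Q hc hw) :
    RefThree.rf Q hc hv = RefThree.rf Q hc hw := by
  obtain ⟨ε, hε, -, hZ⟩ := center_cases hQ hc hdet
  rcases hZ _ (QuotientGroup.eq.1 h) with e | e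
  · exact inv_mul_eq_one.1 e
  · exfalso
    rw [inv_eq_of_mul_eq_one_right (RefThree.rf_sq Q hc hv)] at e
    have := congrArg (fun g : R7 => isoDet (g : isometryGroup (ZMod 3) ⇑Q)) e
    simp only [Subgroup.coe_mul, isoDet_mul, isoDet_rf hc, isoDet_neg hε] at this
    exact absurd this (by decide)

/-- Reflections commute modulo the centre when they commute. -/
theorem mk_rf_commute {v w : V7} (hv : Q v = c) (hw : Q w = c) :
    Commute (RefThree.rf Q hc hv : R7 ⧸ Subgroup.center R7) (RefThree.rf Q hc hw) ↔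
      Commute (RefThree.rf Q hc hv) (RefThree.rf Q hc hw) := by
  refine ⟨fun h => ?_, fun h => h.map (QuotientGroup.mk' _)⟩
  obtain ⟨ε, hε, -, hZ⟩ := center_cases hQ hc hdet
  set p := RefThree.rf Q hc hv with hp
  set q := RefThree.rf Q hc hw with hq
  have h' : ((p * q : R7) : R7 ⧸ Subgroup.center R7) = ((q * p : R7) : R7 ⧸ Subgroup.center R7) := h.eq
  rcases hZ _ (QuotientGroup.eq.1 h') with e | e
  · exact inv_mul_eq_one.1 e
  · exfalso
    rw [mul_inv_rev, inv_eq_of_mul_eq_one_right (RefThree.rf_sq Q hc hv),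
      inv_eq_of_mul_eq_one_right (RefThree.rf_sq Q hc hw)] at e
    have := congrArg (fun g : R7 => isoDet (g : isometryGroup (ZMod 3) ⇑Q)) e
    simp only [hp, hq, Subgroup.coe_mul, isoDet_mul, isoDet_rf hc, isoDet_neg hε] at this
    exact absurd this (by decide)

/-- A non-central involution centralised by an element of order seven is a reflection modulo the centre. -/
theorem invol_form {u v : R7} (hu : u * u = 1) (huZ : u ∉ Subgroup.center R7) (hv : v ^ 7 = 1) (hv1 : v ≠ 1)
    (huv : Commute u v) : ∃ w, ∃ hw : Q w = c,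
      (u : R7 ⧸ Subgroup.center R7) = RefThree.rf Q hc hw := by
  classical
  obtain ⟨ε, hε, hεZ, hZ⟩ := center_cases hQ hc hdet
  let U : isometryGroup (ZMod 3) ⇑Q := u
  let f : V7 →ₗ[ZMod 3] V7 := Matrix.mulVecLin ((U : GL (Fin 7) (ZMod 3)) : Matrix (Fin 7) (Fin 7) (ZMod 3))
  let g : V7 →ₗ[ZMod 3] V7 :=
    Matrix.mulVecLin (((v : isometryGroup (ZMod 3) ⇑Q) : GL (Fin 7) (ZMod 3)) : Matrix (Fin 7) (Fin 7) (ZMod 3))
  have hf : ∀ x, f x = isoApply U x := fun x => rfl
  have hg : ∀ x, g x = isoApply (v : isometryGroup (ZMod 3) ⇑Q) x := fun x => rfl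
  have hU : U * U = 1 := congrArg Subtype.val hu
  have hff : ∀ x, f (f x) = x := fun x => by rw [hf, hf, ← isoApply_mul, hU, isoApply_one]
  have hfg : ∀ x, f (g x) = g (f x) := fun x => by
    simp only [hf, hg, ← isoApply_mul]
    exact congrArg (fun k : R7 => isoApply (k : isometryGroup (ZMod 3) ⇑Q) x) huv.eq
  let Ep : Submodule (ZMod 3) V7 := LinearMap.eqLocus f LinearMap.id
  let Em : Submodule (ZMod 3) V7 := LinearMap.eqLocus f (-LinearMap.id)
  have hEp : ∀ x, x ∈ Ep ↔ f x = x := fun x => Iff.rfl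
  have hEm : ∀ x, x ∈ Em ↔ f x = -x := fun x => Iff.rfl
  have hcompl : IsCompl Ep Em := by
    constructor
    · rw [Submodule.disjoint_def]
      intro x h1 h2
      rw [hEp] at h1
      rw [hEm, h1, eq_neg_iff_add_eq_zero, ← two_smul (ZMod 3)] at h2
      exact (smul_eq_zero.1 h2).resolve_left (by decide)
    · rw [codisjoint_iff, eq_top_iff]
      intro x _
      rw [Submodule.mem_sup]
      refine ⟨-(x + f x), ?_, -(x - f x), ?_, ?_⟩
      · rw [hEp, map_neg, map_add, hff, add_comm]
      · rw [hEm, map_neg, map_sub, hff, neg_neg, neg_sub]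
      · have h3 : (3 : ZMod 3) = 0 := rfl
        calc -(x + f x) + -(x - f x) = (1 : ZMod 3) • x - (3 : ZMod 3) • x := by module
          _ = x := by rw [h3, one_smul, zero_smul, sub_zero]
  have hdim := Submodule.finrank_add_eq_of_isCompl hcompl
  rw [Module.finrank_pi, Fintype.card_fin] at hdim
  -- the element of order seven is trivial on a small eigenspace
  have hsmall : ∀ E : Submodule (ZMod 3) V7, (∀ x ∈ E, g x ∈ E) → Module.finrank (ZMod 3) E ≤ 5 →
      ∀ x ∈ E, g x = x := by
    intro E hE hk x hx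
    let gE : Module.End (ZMod 3) E := g.restrict hE
    have hpow : ∀ (n : ℕ) (y : E), ((gE ^ n) y : V7) = isoApply ((v : isometryGroup (ZMod 3) ⇑Q) ^ n) y := by
      intro n
      induction n with
      | zero => intro y; rw [pow_zero, pow_zero, isoApply_one]; rfl
      | succ n ih => intro y; rw [pow_succ, pow_succ, isoApply_mul, Module.End.mul_apply, ih]; rfl
    have h7 : gE ^ 7 = 1 := LinearMap.ext fun y => Subtype.ext (by
      rw [hpow, ← SubgroupClass.coe_pow, hv, OneMemClass.coe_one, isoApply_one]; rfl)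
    exact congrArg Subtype.val (LinearMap.congr_fun (seven_trivial hk gE h7) ⟨x, hx⟩)
  have hbig : 6 ≤ Module.finrank (ZMod 3) Ep ∨ 6 ≤ Module.finrank (ZMod 3) Em := by
    by_contra hcon
    push Not at hcon
    refine hv1 (Subtype.ext (iso_ext fun x => ?_))
    obtain ⟨p, hp, m, hm, rfl⟩ := Submodule.mem_sup.1
      (hcompl.sup_eq_top.symm ▸ Submodule.mem_top : x ∈ Ep ⊔ Em)
    rw [OneMemClass.coe_one, isoApply_one, ← hg, map_add,
      hsmall Ep (fun y hy => by rw [hEp] at hy ⊢; rw [hfg, hy]) (by omega) p hp,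
      hsmall Em (fun y hy => by rw [hEm] at hy ⊢; rw [hfg, hy, map_neg]) (by omega) m hm]
  have hne1 : Module.finrank (ZMod 3) Ep ≠ 7 := by
    intro h
    have ht : Ep = ⊤ := Submodule.eq_top_of_finrank_eq (by rw [h, Module.finrank_pi, Fintype.card_fin])
    refine huZ ?_
    have : u = 1 := Subtype.ext (iso_ext fun x => by
      rw [OneMemClass.coe_one, isoApply_one]; exact (hEp x).1 (ht ▸ Submodule.mem_top))
    rw [this]; exact one_mem _
  have hne2 : Module.finrank (ZMod 3) Em ≠ 7 := by
    intro h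
    have ht : Em = ⊤ := Submodule.eq_top_of_finrank_eq (by rw [h, Module.finrank_pi, Fintype.card_fin])
    refine huZ ?_
    have : u = ε := Subtype.ext (iso_ext fun x => by
      rw [hε]; exact (hEm x).1 (ht ▸ Submodule.mem_top))
    rw [this]; exact hεZ
  have hperp : ∀ p ∈ Ep, ∀ m ∈ Em, QuadraticMap.polar Q p m = 0 := by
    intro p hp m hm
    have h1 := polar_isoApply U p m
    rw [← hf, ← hf, (hEp p).1 hp, (hEm m).1 hm, QuadraticMap.polar_neg_right, neg_eq_iff_add_eq_zero,
      ← two_mul] at h1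
    exact (mul_eq_zero.1 h1).resolve_left (by decide)
  -- the vector of the reflection
  have key : ∀ (E L : Submodule (ZMod 3) V7) (t : isometryGroup (ZMod 3) ⇑Q), IsCompl E L →
      Module.finrank (ZMod 3) L = 1 → (∀ p ∈ E, ∀ m ∈ L, QuadraticMap.polar Q p m = 0) →
      (∀ p ∈ E, isoApply t p = p) → (∀ m ∈ L, isoApply t m = -m) →
      ∃ w, ∃ hw : Q w ≠ 0, t = reflect Q w hw := by
    intro E L t hEL hL hp hE hLn
    obtain ⟨⟨w, hwL⟩, hw0, hspan⟩ := finrank_eq_one_iff'.1 hL
    have hw0' : w ≠ 0 := fun e => hw0 (Subtype.ext e)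
    have hdec : ∀ x, ∃ p ∈ E, ∃ k : ZMod 3, x = p + k • w := by
      intro x
      obtain ⟨p, hp, m, hm, rfl⟩ := Submodule.mem_sup.1
        (hEL.sup_eq_top.symm ▸ Submodule.mem_top : x ∈ E ⊔ L)
      obtain ⟨k, hk⟩ := hspan ⟨m, hm⟩
      exact ⟨p, hp, k, by rw [← show k • w = m from congrArg Subtype.val hk]⟩
    have hw : Q w ≠ 0 := by
      intro h0
      refine hw0' (hQ.1 w fun x => ?_)
      obtain ⟨p, hpE, k, rfl⟩ := hdec x
      show QuadraticMap.polar Q w (p + k • w) = 0
      rw [QuadraticMap.polar_add_right, QuadraticMap.polar_smul_right, qf_polar_comm Q w p, hp p hpE w hwL,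
        qf_polar_self, h0, mul_zero, smul_zero, add_zero]
    refine ⟨w, hw, iso_ext fun x => ?_⟩
    obtain ⟨p, hpE, k, rfl⟩ := hdec x
    rw [reflect_apply, QuadraticMap.polar_add_left, QuadraticMap.polar_smul_left, hp p hpE w hwL, qf_polar_self,
      zero_add, smul_eq_mul]
    have e1 : isoApply t (p + k • w) = p - k • w := by
      rw [isoApply, Matrix.mulVec_add, Matrix.mulVec_smul, show Matrix.mulVec _ p = p from hE p hpE,
        show Matrix.mulVec _ w = -w from hLn w hwL, smul_neg, ← sub_eq_add_neg]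
    rw [e1, show (Q w)⁻¹ * (k * (2 * Q w)) = 2 * k by field_simp, mul_smul, two_smul]
    abel
  rcases hbig with h6 | h6
  · have hle := Submodule.finrank_le Ep
    rw [Module.finrank_pi, Fintype.card_fin] at hle
    obtain ⟨w, hw, hwu⟩ := key Ep Em U hcompl (by omega) hperp (fun p hp => (hEp p).1 hp)
      fun m hm => (hEm m).1 hm
    have hwc := norm_of_mem hQ hc hw (hwu ▸ u.2)
    exact ⟨w, hwc, congrArg _ (Subtype.ext hwu)⟩
  · have hle := Submodule.finrank_le Em
    rw [Module.finrank_pi, Fintype.card_fin] at hle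
    obtain ⟨w, hw, hwu⟩ := key Em Ep (ε * U) hcompl.symm (by omega)
      (fun p hp m hm => (qf_polar_comm Q _ _).trans (hperp m hm p hp))
      (fun p hp => by rw [isoApply_mul, hε, ← hf, (hEm p).1 hp, neg_neg])
      fun m hm => by rw [isoApply_mul, hε, ← hf, (hEp m).1 hm]
    have hwc := norm_of_mem hQ hc hw (hwu ▸ (ε * u).2)
    refine ⟨w, hwc, ?_⟩
    rw [show RefThree.rf Q hc hwc = ε * u from Subtype.ext hwu.symm, QuotientGroup.eq]
    have : u⁻¹ * (ε * u) = ε := by
      rw [← Subgroup.mem_center_iff.1 hεZ u, inv_mul_cancel_left]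
    rw [this]; exact hεZ

end CfsgLib.FischerPair.RefSeven
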