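import Cfsg.Agent.Lib.FischerPair.RefInvol
import Cfsg.Agent.Lib.FischerPair.M23
import Cfsg.Agent.Lib.ThreeTransp.M23Core.Group
import Cfsg.Agent.Lib.FischerPair.Transport

/-!
# Groups of type `M(23)`: the common neighbours of a non-commuting pair as reflections

The common neighbours correspond to the reflections of one norm in dimension seven over the field with three
elements.
-/

set_option autoImplicit false

namespace CfsgLib.FischerPair

open Cfsg CfsgLib.Classical CfsgLib.ThreeTransp CfsgLib.SporMisc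

local notation "V7" => Fin 7 → ZMod 3

/-- The product of the reflections in a list of vectors, as a map. -/
def refAct (Q : QuadraticForm (ZMod 3) V7) (c : ZMod 3) (l : List V7) (z : V7) : V7 :=
  l.foldr (fun v w => w - (c⁻¹ * QuadraticMap.polar Q w v) • v) z

/-- The common neighbours of `a` and `d` as reflections in vectors of norm `c`. -/
structure RefModel {G : Type*} [Group G] (D : Set G) (a d : G) where
  Q : QuadraticForm (ZMod 3) V7
  hQ : (QuadraticMap.polarBilin Q).Nondegenerate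
  c : ZMod 3
  hc : c ≠ 0
  hdet : polarGramDet (⇑Q) = -c
  ψ : ↥(dSub D a d) ≃* ↥(reflectionSubgroup (⇑Q) c) ⧸ Subgroup.center ↥(reflectionSubgroup (⇑Q) c)
  vec : G → V7
  norm : ∀ {x : G}, x ∈ common D a d → Q (vec x) = c
  map_vec : ∀ {x : G} (hx : x ∈ common D a d),
    ψ ⟨x, Subgroup.subset_closure hx⟩ =
      ((RefThree.rf Q hc (norm hx) : ↥(reflectionSubgroup (⇑Q) c)) :
        ↥(reflectionSubgroup (⇑Q) c) ⧸ Subgroup.center ↥(reflectionSubgroup (⇑Q) c))
  surj : ∀ {v : V7}, Q v = c → ∃ x ∈ common D a d, vec x = v ∨ vec x = -v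

namespace RefModel

variable {G : Type*} [Group G] {D : Set G} {a d : G} (M : RefModel D a d)
include M

theorem inj {x y : G} (hx : x ∈ common D a d) (hy : y ∈ common D a d)
    (h : M.vec y = M.vec x ∨ M.vec y = -M.vec x) : x = y := by
  have e : RefThree.rf M.Q M.hc (M.norm hx) = RefThree.rf M.Q M.hc (M.norm hy) := by
    rcases h with h | h
    · exact RefThree.rf_congr M.Q M.hc _ _ one_ne_zero (by rw [one_smul, h])
    · exact RefThree.rf_congr M.Q M.hc _ _ (a := -1) (by decide) (by rw [h, neg_smul, one_smul])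
  have := M.ψ.injective ((M.map_vec hx).trans ((congrArg _ e).trans (M.map_vec hy).symm))
  exact congrArg Subtype.val this

theorem comm {x y : G} (hx : x ∈ common D a d) (hy : y ∈ common D a d) :
    Commute x y ↔ x = y ∨ QuadraticMap.polar M.Q (M.vec x) (M.vec y) = 0 := by
  have h1 : Commute x y ↔ Commute (M.ψ ⟨x, Subgroup.subset_closure hx⟩) (M.ψ ⟨y, Subgroup.subset_closure hy⟩) :=
    ⟨fun h => (show Commute (⟨x, _⟩ : ↥(dSub D a d)) ⟨y, _⟩ from Subtype.ext h).map M.ψ,
      fun h => congrArg Subtype.val (by simpa using h.map M.ψ.symm : Commute (⟨x, _⟩ : ↥(dSub D a d)) ⟨y, _⟩)⟩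
  rw [h1, M.map_vec hx, M.map_vec hy, RefSeven.mk_rf_commute M.hQ M.hc M.hdet, RefThree.commute_iff M.Q M.hc]
  constructor
  · rintro (h | h | h)
    · exact Or.inr ((qf_polar_comm M.Q _ _).trans h)
    · exact Or.inl (M.inj hx hy (Or.inl h))
    · exact Or.inl (M.inj hx hy (Or.inr h))
  · rintro (rfl | h)
    · exact Or.inr (Or.inl rfl)
    · exact Or.inl ((qf_polar_comm M.Q _ _).trans h)

/-- A product of common neighbours acting as a scalar on vectors is trivial. -/
theorem word (l : List G) (hl : ∀ x ∈ l, x ∈ common D a d)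
    (h : (∀ z, refAct M.Q M.c (l.map M.vec) z = z) ∨ ∀ z, refAct M.Q M.c (l.map M.vec) z = -z) :
    l.prod = 1 := by
  obtain ⟨ε, hε, hεZ, -⟩ := RefSeven.center_cases M.hQ M.hc M.hdet
  have key : ∀ l : List G, (∀ x ∈ l, x ∈ common D a d) → ∃ (hm : l.prod ∈ dSub D a d)
      (g : ↥(reflectionSubgroup (⇑M.Q) M.c)), M.ψ ⟨l.prod, hm⟩ = g ∧
      ∀ z, isoApply (g : isometryGroup (ZMod 3) ⇑M.Q) z = refAct M.Q M.c (l.map M.vec) z := by
    intro l
    induction l with
    | nil =>
      intro _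
      exact ⟨one_mem _, 1, map_one M.ψ, fun z => isoApply_one z⟩
    | cons x t ih =>
      intro hl
      have hx := hl x List.mem_cons_self
      obtain ⟨hm, g, hg, hgz⟩ := ih fun y hy => hl y (List.mem_cons_of_mem _ hy)
      refine ⟨mul_mem (Subgroup.subset_closure hx) hm, RefThree.rf M.Q M.hc (M.norm hx) * g, ?_, fun z => ?_⟩
      · show M.ψ (⟨x, Subgroup.subset_closure hx⟩ * ⟨t.prod, hm⟩) = _
        rw [map_mul, M.map_vec hx, hg]
        rfl
      · show isoApply (reflect M.Q (M.vec x) (RefThree.nz M.Q M.hc (M.norm hx)) *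
          (g : isometryGroup (ZMod 3) ⇑M.Q)) z = _
        rw [isoApply_mul, hgz, reflect_apply, M.norm hx]
        rfl
  obtain ⟨hm, g, hg, hgz⟩ := key l hl
  have hgZ : g ∈ Subgroup.center _ := by
    rcases h with h | h
    · rw [show g = 1 from Subtype.ext (iso_ext fun z => by rw [hgz, h, OneMemClass.coe_one, isoApply_one])]
      exact one_mem _
    · rw [show g = ε from Subtype.ext (iso_ext fun z => by rw [hgz, h, hε])]
      exact hεZ
  rw [(QuotientGroup.eq_one_iff g).2 hgZ, MulEquiv.map_eq_one_iff] at hg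
  exact congrArg Subtype.val hg

end RefModel

end CfsgLib.FischerPair

namespace CfsgLib.M23

open Cfsg CfsgLib.Classical CfsgLib.ThreeTransp CfsgLib.SporMisc CfsgLib.ThreeTransp.Factor CfsgLib.FischerPair

variable {G : Type*} [Group G] [Finite G] {D : Set G}

/-- Seven divides the order of the centraliser of a common neighbour. -/
theorem exists_seven (S : Setup D) {a d x : G} (ha : a ∈ D) (hd : d ∈ D) (hnc : ¬ Commute a d)
    (hx : x ∈ common D a d) (h7 : 7 ∣ Nat.card ↥(dSub D a d)) :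
    ∃ k : ↥(dSub D a d), orderOf k = 7 ∧ Commute k ⟨x, Subgroup.subset_closure hx⟩ := by
  set x₀ : ↥(dSub D a d) := ⟨x, Subgroup.subset_closure hx⟩ with hx₀
  have P := pairData S
  have horb : MulAction.orbit (ConjAct ↥(dSub D a d)) x₀ = {y : ↥(dSub D a d) | (y : G) ∈ common D a d} := by
    ext y
    rw [ConjAct.mem_orbit_conjAct, Set.mem_setOf_eq]
    constructor
    · intro h
      obtain ⟨k, rfl⟩ := isConj_iff.1 h.symm
      exact dSub_conj_mem S.tt (dSub_commute k.2).1 (dSub_commute k.2).2 hx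
    · intro hy
      obtain ⟨k, hk, hkx⟩ := P.trans ha hd hnc hx hy
      exact (isConj_iff.2 ⟨⟨k, hk⟩, Subtype.ext hkx⟩).symm
  have hcard : Nat.card (MulAction.orbit (ConjAct ↥(dSub D a d)) x₀) = 351 := by
    rw [horb, ← common_ncard_eq S ha hd hnc, ← Nat.card_coe_set_eq]
    exact Nat.card_congr
      { toFun := fun y => ⟨(y.1 : G), y.2⟩
        invFun := fun y => ⟨⟨y.1, Subgroup.subset_closure y.2⟩, y.2⟩
        left_inv := fun _ => rfl
        right_inv := fun _ => rfl }
  have hidx : (Subgroup.centralizer ({x₀} : Set ↥(dSub D a d))).index = 351 := by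
    rw [← hcard, Nat.card_coe_set_eq, ← MulAction.index_stabilizer, ConjAct.stabilizer_eq_centralizer]
    rfl
  rw [← Subgroup.card_mul_index (Subgroup.centralizer ({x₀} : Set ↥(dSub D a d))), hidx] at h7
  have h7' : 7 ∣ Nat.card (Subgroup.centralizer ({x₀} : Set ↥(dSub D a d))) :=
    ((show Nat.Prime 7 by norm_num).dvd_mul.1 h7).resolve_right (by norm_num)
  haveI : Fact (Nat.Prime 7) := ⟨by norm_num⟩
  obtain ⟨k, hk⟩ := exists_prime_orderOf_dvd_card' 7 h7'
  exact ⟨k, by rwa [Subgroup.orderOf_coe], Subgroup.mem_centralizer_singleton_iff.1 k.2⟩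

/-- The common neighbours of a non-commuting pair are the reflections of one norm. -/
theorem exists_refModel (S : Setup D) {a d : G} (ha : a ∈ D) (hd : d ∈ D) (hnc : ¬ Commute a d) :
    Nonempty (RefModel D a d) := by
  classical
  have P := pairData S
  obtain ⟨-, d₁, hd₁, c₁, hc₁, hdc, -, c, hc, Q, hQ, hμ, ⟨e⟩⟩ := S.isOfType
  obtain ⟨g, hga, hgd⟩ := pair_trans S ha hd hnc hd₁ hc₁ hdc
  obtain ⟨f⟩ := dSub_equiv S.tt P ha hd hnc hga hgd
    (T := {y : G | y ∈ D ∧ y ≠ d₁ ∧ Commute d₁ y} ∩ {y : G | y ∈ D ∧ y ≠ c₁ ∧ Commute c₁ y}) rfl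
  set ψ := f.trans e with hψ
  obtain ⟨ε, hε, hεZ, hZ⟩ := RefSeven.center_cases hQ hc hμ
  have h7 : 7 ∣ Nat.card ↥(dSub D a d) := by
    rw [Nat.card_congr ψ.toEquiv]; exact RefSeven.seven_dvd hQ hc hμ
  have hex : ∀ {x : G} (hx : x ∈ common D a d), ∃ w, ∃ hw : Q w = c,
      ψ ⟨x, Subgroup.subset_closure hx⟩ = ((RefThree.rf Q hc hw : ↥(reflectionSubgroup (⇑Q) c)) :
        ↥(reflectionSubgroup (⇑Q) c) ⧸ Subgroup.center ↥(reflectionSubgroup (⇑Q) c)) := by
    intro x hx
    set x₀ : ↥(dSub D a d) := ⟨x, Subgroup.subset_closure hx⟩ with hx₀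
    obtain ⟨k, hk, hkx⟩ := exists_seven S ha hd hnc hx h7
    obtain ⟨u, hu⟩ := QuotientGroup.mk_surjective (ψ x₀)
    obtain ⟨v, hv⟩ := QuotientGroup.mk_surjective (ψ k)
    have hxx : x₀ * x₀ = 1 := Subtype.ext (S.tt.sq x hx.1.1)
    have huZ : u ∉ Subgroup.center _ := by
      intro h
      rw [(QuotientGroup.eq_one_iff u).2 h, eq_comm, MulEquiv.map_eq_one_iff] at hu
      exact S.tt.ne_one x hx.1.1 (congrArg Subtype.val hu)
    have hu2 : u * u = 1 := by
      have h : ((u * u : ↥(reflectionSubgroup (⇑Q) c)) :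
          ↥(reflectionSubgroup (⇑Q) c) ⧸ Subgroup.center ↥(reflectionSubgroup (⇑Q) c)) = 1 := by
        rw [QuotientGroup.mk_mul, hu, ← map_mul, hxx, map_one]
      refine (hZ _ ((QuotientGroup.eq_one_iff _).1 h)).resolve_right fun e => ?_
      have := congrArg (fun g : ↥(reflectionSubgroup (⇑Q) c) =>
        RefSeven.isoDet (g : isometryGroup (ZMod 3) ⇑Q)) e
      simp only [Subgroup.coe_mul, RefSeven.isoDet_mul, RefSeven.isoDet_neg hε] at this
      exact (show ∀ t : ZMod 3, t * t ≠ -1 by decide) _ this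
    have hzz : ∀ z ∈ Subgroup.center ↥(reflectionSubgroup (⇑Q) c), z * z = 1 := fun z hz => by
      rcases hZ z hz with rfl | rfl
      · exact one_mul _
      · exact Subtype.ext (iso_ext fun y => by
          rw [Subgroup.coe_mul, isoApply_mul, hε, hε, neg_neg, OneMemClass.coe_one, isoApply_one])
    have hcomm : u * v * u⁻¹ * v⁻¹ ∈ Subgroup.center _ := by
      rw [← QuotientGroup.eq_one_iff]
      simp only [QuotientGroup.mk_mul, QuotientGroup.mk_inv, hu, hv, ← map_mul, ← map_inv]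
      rw [hkx.symm.eq, mul_inv_cancel_right, mul_inv_cancel, map_one]
    have hcomm2 : Commute u (v * v) := by
      set z := u * v * u⁻¹ * v⁻¹ with hz
      have e1 : u * v * u⁻¹ = z * v := by rw [hz, inv_mul_cancel_right]
      have hzv : Commute z v := (Subgroup.mem_center_iff.1 hcomm v).symm
      refine mul_inv_eq_iff_eq_mul.1 ?_
      calc u * (v * v) * u⁻¹ = (u * v * u⁻¹) * (u * v * u⁻¹) := by group
        _ = (z * v) * (z * v) := by rw [e1]
        _ = (z * z) * (v * v) := hzv.symm.mul_mul_mul_comm z v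
        _ = v * v := by rw [hzz z hcomm, one_mul]
    have hk7 : k ^ 7 = 1 := by
      have := pow_orderOf_eq_one k
      rwa [hk] at this
    have hv14 : (v * v) ^ 7 = 1 := by
      have h : ((v ^ 7 : ↥(reflectionSubgroup (⇑Q) c)) :
          ↥(reflectionSubgroup (⇑Q) c) ⧸ Subgroup.center ↥(reflectionSubgroup (⇑Q) c)) = 1 := by
        rw [QuotientGroup.mk_pow, hv, ← map_pow, hk7, map_one]
      rw [(Commute.refl v).mul_pow]
      exact hzz _ ((QuotientGroup.eq_one_iff _).1 h)
    have hv1 : v * v ≠ 1 := by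
      intro h
      have : ψ (k * k) = 1 := by rw [map_mul, ← hv, ← QuotientGroup.mk_mul, h, QuotientGroup.mk_one]
      rw [MulEquiv.map_eq_one_iff, ← pow_two] at this
      have := orderOf_dvd_of_pow_eq_one this
      rw [hk] at this
      norm_num at this
    obtain ⟨w, hw, hwu⟩ := RefSeven.invol_form hQ hc hμ hu2 huZ hv14 hv1 hcomm2
    exact ⟨w, hw, hu.symm.trans hwu⟩
  choose w hw hwψ using @hex
  let vec : G → Fin 7 → ZMod 3 := fun x => if h : x ∈ common D a d then w h else 0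
  have hvec : ∀ {x : G} (hx : x ∈ common D a d), vec x = w hx := fun hx => dif_pos hx
  have hmap : ∀ {x : G} (hx : x ∈ common D a d) (hn : Q (vec x) = c),
      ψ ⟨x, Subgroup.subset_closure hx⟩ = ((RefThree.rf Q hc hn : ↥(reflectionSubgroup (⇑Q) c)) :
        ↥(reflectionSubgroup (⇑Q) c) ⧸ Subgroup.center ↥(reflectionSubgroup (⇑Q) c)) := fun {x} hx hn => by
    rw [hwψ hx, RefThree.rf_congr Q hc (hw hx) hn one_ne_zero (by rw [one_smul, hvec hx])]
  refine ⟨⟨Q, hQ, c, hc, hμ, ψ, vec, fun {x} hx => by rw [hvec hx]; exact hw hx, fun hx => hmap hx _, ?_⟩⟩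
  intro v hv
  obtain ⟨x, hx⟩ := P.nonempty ha hd hnc
  obtain ⟨-, ⟨r₀, -, hcls⟩, -⟩ := RefThree.isClass Q hQ hc (by norm_num : 5 ≤ 7)
  have h1 : IsConj r₀ (RefThree.rf Q hc (hw hx)) := by
    have := RefThree.rf_mem Q hc (hw hx); rwa [hcls] at this
  have h2 : IsConj r₀ (RefThree.rf Q hc hv) := by
    have := RefThree.rf_mem Q hc hv; rwa [hcls] at this
  obtain ⟨r, hr⟩ := isConj_iff.1 (h1.symm.trans h2)
  obtain ⟨k, hk⟩ := ψ.surjective (r : ↥(reflectionSubgroup (⇑Q) c) ⧸ Subgroup.center _)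
  have hy := dSub_conj_mem S.tt (dSub_commute k.2).1 (dSub_commute k.2).2 hx
  refine ⟨_, hy, ?_⟩
  have e : ((RefThree.rf Q hc hv : ↥(reflectionSubgroup (⇑Q) c)) :
      ↥(reflectionSubgroup (⇑Q) c) ⧸ Subgroup.center ↥(reflectionSubgroup (⇑Q) c)) =
      RefThree.rf Q hc (hw hy) := by
    rw [← hwψ hy, show (⟨_, Subgroup.subset_closure hy⟩ : ↥(dSub D a d)) =
      k * ⟨x, Subgroup.subset_closure hx⟩ * k⁻¹ from rfl, map_mul, map_mul, map_inv, hk, hwψ hx, ← hr]
    rfl
  rw [hvec hy]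
  exact RefThree.rf_inj Q hc hv (hw hy) (RefSeven.mk_rf_inj hQ hc hμ hv (hw hy) e)

end CfsgLib.M23
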