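import Cfsg.Agent.Lib.SporMisc.RefIndexThree
import Cfsg.Agent.Lib.Fusion.OmegaSeven.Main
import Cfsg.Agent.Lib.Classical.OmegaOdd
import Cfsg.Agent.Lib.Classical.QuadBridge
import Cfsg.Agent.Lib.Classical.QuadPOmega
import Cfsg.Prelude.Def_FischerSpaces

/-!
# The reflection group in dimension seven over the field with three elements

When the discriminant is the negative of the norm of the reflections, minus the identity is a product of seven
of them and the group modulo its centre is `Ω₇(3)`.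
-/

set_option autoImplicit false

namespace CfsgLib.FischerPair.RefSeven

open Cfsg CfsgLib.Classical CfsgLib.Classical.SylowTwo CfsgLib.SporMisc
open scoped commutatorElement

variable (Q : QuadraticForm (ZMod 3) (Fin 7 → ZMod 3)) (hQ : (QuadraticMap.polarBilin Q).Nondegenerate)
include hQ

theorem two_ne : (2 : ZMod 3) ≠ 0 := by decide

/-- The isometry group is that of the standard odd form. -/
theorem exists_iso : Nonempty (isometryGroup (ZMod 3) ⇑Q ≃* isometryGroup (ZMod 3) ⇑(qOdd 3 (ZMod 3))) := by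
  classical
  have h2 : (2 : ZMod 3) ≠ 0 := by decide
  have hQ' := polarNondeg_of_nondegenerate hQ
  obtain ⟨t, ht, hC⟩ := CfsgLib.Forms.formEquiv_of_odd h2 (polarGram_transpose (qOdd 3 (ZMod 3)))
    (B := polarGram Q) (polarGram_transpose Q)
    (Fintype.equivOfCardEq (by simp [OddI])) (det_polarGram_ne _ (polarNondeg_qOdd h2 3))
    (det_polarGram_ne _ hQ') ⟨3, by simp [OddI]⟩
  obtain ⟨x, y, hxy, hyx, hB⟩ := hC
  let e : (Fin 7 → ZMod 3) ≃ₗ[ZMod 3] (OddI 3 → ZMod 3) :=
    LinearEquiv.ofLinearMap (Matrix.mulVecLin x) (Matrix.mulVecLin y)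
      (by rw [← Matrix.mulVecLin_mul, hxy, Matrix.mulVecLin_one])
      (by rw [← Matrix.mulVecLin_mul, hyx, Matrix.mulVecLin_one])
  refine ⟨((isoEquiv Q).trans (qAutSimilar e ht fun v => mul_left_cancel₀ h2 ?_)).trans
    (isoEquiv (qOdd 3 (ZMod 3))).symm⟩
  show 2 * qOdd 3 (ZMod 3) (Matrix.mulVec x v) = _
  have hh : dotProduct (Matrix.mulVec x v) (Matrix.mulVec (polarGram (qOdd 3 (ZMod 3))) (Matrix.mulVec x v))
      = dotProduct v (Matrix.mulVec (x.transpose * polarGram (qOdd 3 (ZMod 3)) * x) v) := by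
    rw [← Matrix.mulVec_mulVec, ← Matrix.mulVec_mulVec, Matrix.dotProduct_mulVec v,
      Matrix.vecMul_transpose]
  rw [← quad_polar_self, polarGram_form, hh, hB, Matrix.smul_mulVec, dotProduct_smul, smul_eq_mul,
    ← polarGram_form, quad_polar_self]
  ring

variable {c : ZMod 3} (hc : c ≠ 0)
include hc

/-- Orthogonal vectors of norm `c`. -/
theorem exists_orth : ∀ k ≤ 6, ∃ u : Fin k → Fin 7 → ZMod 3, (∀ i, Q (u i) = c) ∧
    ∀ i j, i ≠ j → RefThree.pf Q (u i) (u j) = 0 := by
  intro k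
  induction k with
  | zero => exact fun _ => ⟨Fin.elim0, fun i => i.elim0, fun i => i.elim0⟩
  | succ k ih =>
    intro hk
    obtain ⟨u, hu, horth⟩ := ih (by omega)
    obtain ⟨a, ha, hac⟩ := RefThree.exists_perp_value Q hQ u (fun i => hu i ▸ hc) horth (by omega) hc
    refine ⟨Fin.cons a u, fun i => Fin.cases (by simpa using hac) (fun i => by simpa using hu i) i, ?_⟩
    exact (RefThree.orth_cons Q (fun i => hu i ▸ hc) horth ha (hac ▸ hc)).2

omit hQ in
/-- A product of reflections in orthogonal vectors. -/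
theorem prod_reflect : ∀ (k : ℕ) (w : Fin k → Fin 7 → ZMod 3) (_ : ∀ i, Q (w i) = c)
    (_ : ∀ i j, i ≠ j → RefThree.pf Q (w i) (w j) = 0),
    ∃ g ∈ reflectionSubgroup (⇑Q) c, ∀ x,
      isoApply g x = x - ∑ i, (c⁻¹ * QuadraticMap.polar Q x (w i)) • w i := by
  intro k
  induction k with
  | zero => exact fun w _ _ => ⟨1, one_mem _, fun x => by rw [isoApply_one]; simp⟩
  | succ k ih =>
    intro w hw horth
    obtain ⟨g, hg, hgx⟩ := ih (Fin.tail w) (fun i => hw i.succ)
      (fun i j hij => horth i.succ j.succ fun h => hij (Fin.succ_injective _ h))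
    have h0 : Q (w 0) ≠ 0 := hw 0 ▸ hc
    refine ⟨reflect Q (w 0) h0 * g,
      mul_mem (Subgroup.subset_closure ⟨w 0, hw 0, reflect_coe Q _ _⟩) hg, fun x => ?_⟩
    have hz : QuadraticMap.polar Q (∑ i, (c⁻¹ * QuadraticMap.polar Q x (Fin.tail w i)) • Fin.tail w i) (w 0) = 0 := by
      have := RefThree.pf_sum_left Q (fun i => c⁻¹ * QuadraticMap.polar Q x (Fin.tail w i)) (Fin.tail w) (w 0)
      simp only [RefThree.pf] at this
      rw [this]
      exact Finset.sum_eq_zero fun i _ => by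
        have := horth i.succ 0 (Fin.succ_ne_zero i)
        simp only [RefThree.pf] at this
        rw [show QuadraticMap.polar Q (Fin.tail w i) (w 0) = 0 from this, mul_zero]
    rw [isoApply_mul, hgx, reflect_apply, hw 0, QuadraticMap.polar_sub_left, hz, sub_zero, Fin.sum_univ_succ]
    simp only [Fin.tail]
    abel

/-- Minus the identity is a product of reflections of norm `c`. -/
theorem exists_neg (hdet : polarGramDet (⇑Q) = -c) :
    ∃ ε ∈ reflectionSubgroup (⇑Q) c, ∀ x, isoApply ε x = -x := by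
  classical
  obtain ⟨u, hu, horth⟩ := exists_orth Q hQ hc 6 le_rfl
  obtain ⟨a, ha, ha0⟩ := RefThree.exists_perp_aniso Q hQ u (fun i => hu i ▸ hc) horth (by omega)
  obtain ⟨hw0, hworth⟩ := RefThree.orth_cons Q (fun i => hu i ▸ hc) horth ha ha0
  set w : Fin 7 → Fin 7 → ZMod 3 := Fin.cons a u with hw
  let P : Matrix (Fin 7) (Fin 7) (ZMod 3) := Matrix.of fun i j => w j i
  have hPG : ∀ (z : Fin 7 → ZMod 3) j, (P.transpose * polarGram Q).mulVec z j = QuadraticMap.polar Q (w j) z := by
    intro z j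
    rw [polarGram_form, ← Matrix.mulVec_mulVec]
    rfl
  have hdiag : P.transpose * polarGram Q * P = Matrix.diagonal fun i => 2 * Q (w i) := by
    ext i j
    rw [show (P.transpose * polarGram Q * P) i j = (P.transpose * polarGram Q).mulVec (w j) i from rfl, hPG]
    by_cases hij : i = j
    · subst hij; rw [Matrix.diagonal_apply_eq, quad_polar_self]
    · rw [Matrix.diagonal_apply_ne _ hij]; exact hworth i j hij
  have hd := congrArg Matrix.det hdiag
  rw [Matrix.det_mul, Matrix.det_mul, Matrix.det_transpose, Matrix.det_diagonal, Fin.prod_univ_succ,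
    show (polarGram Q).det = -c from hdet] at hd
  simp only [hw, Fin.cons_zero, Fin.cons_succ, hu, Finset.prod_const, Finset.card_univ, Fintype.card_fin] at hd
  have key : ∀ p q c : ZMod 3, q ≠ 0 → c ≠ 0 → p * -c * p = 2 * q * (2 * c) ^ 6 → q = c ∧ p ≠ 0 := by decide
  obtain ⟨hac, hp⟩ := key _ _ _ ha0 hc hd
  have hwc : ∀ i, Q (w i) = c := fun i => Fin.cases (by simpa [hw] using hac) (fun i => by simpa [hw] using hu i) i
  obtain ⟨g, hg, hgx⟩ := prod_reflect Q hc 7 w hwc hworth
  refine ⟨g, hg, fun x => ?_⟩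
  set s := ∑ i, (c⁻¹ * QuadraticMap.polar Q x (w i)) • w i with hs
  have hne : (P.transpose * polarGram Q).det ≠ 0 := by
    rw [Matrix.det_mul, Matrix.det_transpose, show (polarGram Q).det = -c from hdet]
    exact mul_ne_zero hp (neg_ne_zero.2 hc)
  have hz : (2 : ZMod 3) • x - s = 0 := by
    refine Matrix.eq_zero_of_mulVec_eq_zero hne (funext fun j => ?_)
    rw [hPG, QuadraticMap.polar_comm, Pi.zero_apply, QuadraticMap.polar_sub_left, QuadraticMap.polar_smul_left]
    have h1 := RefThree.pf_sum_left Q (fun i => c⁻¹ * QuadraticMap.polar Q x (w i)) w (w j)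
    simp only [RefThree.pf] at h1
    have hzero : ∀ i, i ≠ j → QuadraticMap.polar Q (w i) (w j) = 0 := fun i hij => hworth i j hij
    rw [hs, h1, Finset.sum_eq_single j (fun i _ hij => by rw [hzero i hij, mul_zero])
      (fun h => absurd (Finset.mem_univ j) h), quad_polar_self, hwc, smul_eq_mul, sub_eq_zero]
    field_simp
  rw [hgx, ← hs, ← sub_eq_zero.1 hz, two_smul]
  abel

/-- The central quotient is `Ω₇(3)`. -/
theorem quotient_equiv (hdet : polarGramDet (⇑Q) = -c) :
    Nonempty (reflectionSubgroup (⇑Q) c ⧸ Subgroup.center (reflectionSubgroup (⇑Q) c) ≃*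
      POmega (ZMod 3) (quadFormOdd 3 (ZMod 3))) := by
  classical
  set W := reflectionSubgroup (⇑Q) c with hW
  set O := commutator (isometryGroup (ZMod 3) ⇑Q) with hO
  obtain ⟨E⟩ := exists_iso Q hQ
  let d : ↥O ≃* ↥(Omega (ZMod 3) ⇑(qOdd 3 (ZMod 3))) :=
    (E.subgroupMap O).trans (MulEquiv.subgroupCongr (map_commutator_equiv E))
  have hZ := center_Omega_qOdd (F := ZMod 3) (le_refl 3) (by decide)
  have hOZ : ∀ z : ↥O, z ∈ Subgroup.center ↥O → z = 1 := by
    intro z hz
    have : d z ∈ Subgroup.center ↥(Omega (ZMod 3) ⇑(qOdd 3 (ZMod 3))) := Subgroup.mem_center_iff.2 fun y =>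
      d.symm.injective (by simpa using Subgroup.mem_center_iff.1 hz (d.symm y))
    rw [hZ, Subgroup.mem_bot] at this
    exact d.injective (by rw [this, map_one])
  obtain ⟨ε, hεW, hε⟩ := exists_neg Q hQ hc hdet
  have hεc : ∀ h, Commute ε h := fun h => iso_ext fun x => by
    rw [isoApply_mul, isoApply_mul, hε, hε]
    exact (Matrix.mulVec_neg _ _).symm
  have hεO : ε ∉ O := by
    intro hm
    have h1 : ε = 1 := congrArg Subtype.val
      (hOZ ⟨ε, hm⟩ (Subgroup.mem_center_iff.2 fun y => Subtype.ext (hεc y.1).eq.symm))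
    have h2 := congrFun (hε (fun _ => 1)) 0
    rw [h1, isoApply_one] at h2
    exact absurd h2 (by decide)
  haveI hWn : W.Normal := Subgroup.normal_of_index_eq_two (RefThree.index_two Q hQ hc (by norm_num))
  have hle : O ≤ W := by
    haveI : IsMulCommutative (isometryGroup (ZMod 3) ⇑Q ⧸ W) := by
      have h2 : Nat.card (isometryGroup (ZMod 3) ⇑Q ⧸ W) = 2 := RefThree.index_two Q hQ hc (by norm_num)
      haveI : Fact (Nat.Prime 2) := ⟨Nat.prime_two⟩
      haveI := isCyclic_of_prime_card h2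
      exact IsCyclic.commutative
    rw [hO, commutator_def, Subgroup.commutator_le]
    intro p _ q _
    rw [← QuotientGroup.eq_one_iff (N := W), ← QuotientGroup.mk'_apply, map_commutatorElement,
      commutatorElement_eq_one_iff_mul_comm]
    exact mul_comm' _ _
  -- all generators agree modulo `O`
  obtain ⟨⟨h2, h3⟩, ⟨r₀, hr₀, hcls⟩, hgen⟩ := RefThree.isClass Q hQ hc (by norm_num)
  have hsame : ∀ r ∈ reflectionsOfNorm (⇑Q) c,
      ((r : isometryGroup (ZMod 3) ⇑Q) : isometryGroup (ZMod 3) ⇑Q ⧸ O) = (r₀ : isometryGroup (ZMod 3) ⇑Q) := by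
    intro r hr
    have hr' : (⟨r, Subgroup.subset_closure hr⟩ : ↥W) ∈ RefThree.cls Q c := hr
    rw [hcls] at hr'
    obtain ⟨g, hg⟩ := isConj_iff.1 (show IsConj r₀ _ from hr')
    have hg' : (g : isometryGroup (ZMod 3) ⇑Q) * (r₀ : isometryGroup (ZMod 3) ⇑Q) *
        (g : isometryGroup (ZMod 3) ⇑Q)⁻¹ = r := congrArg Subtype.val hg
    rw [← hg', QuotientGroup.eq]
    rw [show ((g : isometryGroup (ZMod 3) ⇑Q) * (r₀ : isometryGroup (ZMod 3) ⇑Q) * (g : isometryGroup (ZMod 3) ⇑Q)⁻¹)⁻¹ *
        (r₀ : isometryGroup (ZMod 3) ⇑Q) = ⁅(g : isometryGroup (ZMod 3) ⇑Q), (r₀ : isometryGroup (ZMod 3) ⇑Q)⁻¹⁆ by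
      rw [commutatorElement_def]; group]
    exact Subgroup.commutator_mem_commutator (Subgroup.mem_top _) (Subgroup.mem_top _)
  let φ := QuotientGroup.mk' O
  have hr2 : φ r₀ * φ r₀ = 1 := by
    rw [← map_mul, show (r₀ : isometryGroup (ZMod 3) ⇑Q) * r₀ = 1 from
      congrArg Subtype.val ((by rw [← sq, ← h2 r₀ hr₀, pow_orderOf_eq_one] : r₀ * r₀ = 1)), map_one]
  have hcases : ∀ g ∈ W, φ g = 1 ∨ φ g = φ r₀ := by
    intro g hg
    induction hg using Subgroup.closure_induction with
    | mem r hr => exact Or.inr (hsame r hr)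
    | one => exact Or.inl (map_one _)
    | mul p q _ _ i1 i2 =>
      rcases i1 with i1 | i1 <;> rcases i2 with i2 | i2 <;> simp [map_mul, i1, i2, hr2]
    | inv p _ i1 =>
      rcases i1 with i1 | i1
      · exact Or.inl (by rw [map_inv, i1, inv_one])
      · exact Or.inr (by rw [map_inv, i1, inv_eq_of_mul_eq_one_right hr2])
  have hcover : ∀ g ∈ W, g ∈ O ∨ ε * g ∈ O := by
    intro g hg
    rcases hcases g hg with h | h
    · exact Or.inl ((QuotientGroup.eq_one_iff g).1 h)
    · refine Or.inr ((QuotientGroup.eq_one_iff _).1 (?_ : φ (ε * g) = 1))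
      rcases hcases ε hεW with h' | h'
      · exact absurd ((QuotientGroup.eq_one_iff ε).1 h') hεO
      · rw [map_mul, h', h, hr2]
  let ι : ↥O →* ↥W ⧸ Subgroup.center ↥W := (QuotientGroup.mk' _).comp (Subgroup.inclusion hle)
  have hinj : Function.Injective ι := by
    refine (injective_iff_map_eq_one ι).2 fun z hz => hOZ z (Subgroup.mem_center_iff.2 fun y => ?_)
    have := Subgroup.mem_center_iff.1 ((QuotientGroup.eq_one_iff _).1 hz) ⟨(y : isometryGroup (ZMod 3) ⇑Q), hle y.2⟩
    exact Subtype.ext (congrArg Subtype.val this :)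
  have hsurj : Function.Surjective ι := by
    intro q
    obtain ⟨⟨g, hg⟩, rfl⟩ := QuotientGroup.mk'_surjective _ q
    rcases hcover g hg with h | h
    · exact ⟨⟨g, h⟩, rfl⟩
    · refine ⟨⟨ε * g, h⟩, ?_⟩
      show QuotientGroup.mk' _ ((⟨ε, hεW⟩ : ↥W) * ⟨g, hg⟩) = _
      rw [map_mul, show QuotientGroup.mk' (Subgroup.center ↥W) ⟨ε, hεW⟩ = 1 from
        (QuotientGroup.eq_one_iff _).2 (Subgroup.mem_center_iff.2 fun y => Subtype.ext (hεc y.1).eq.symm), one_mul]
  rw [← coe_qOdd]
  exact ⟨((MulEquiv.ofBijective ι ⟨hinj, hsurj⟩).symm.trans d).trans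
    (QuotientGroup.quotientBot.symm.trans (QuotientGroup.quotientMulEquivOfEq hZ.symm))⟩

end CfsgLib.FischerPair.RefSeven
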